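import Cfsg.Agent.Lib.ClassSquareGauss.Moves

/-!
# Alternating matrices and rank two perturbations
-/

set_option autoImplicit false

namespace Cfsg.Agent.ClassSquareGauss

open Matrix

variable {F : Type*} [Field F] {m : ℕ}

local notation "Mat" => Matrix (Fin m) (Fin m) F
local notation "V" => Fin m → F

/-- alternating: the quadratic values vanish -/
def IsAlt (M : Matrix (Fin m) (Fin m) F) : Prop := ∀ x : Fin m → F, x ⬝ᵥ (M *ᵥ x) = 0

theorem IsAlt.zero : IsAlt (0 : Mat) := fun x => by simp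

theorem IsAlt.add {M N : Mat} (h : IsAlt M) (h' : IsAlt N) : IsAlt (M + N) := fun x => by
  rw [add_mulVec, dotProduct_add, h, h', add_zero]

theorem IsAlt.neg {M : Mat} (h : IsAlt M) : IsAlt (-M) := fun x => by
  rw [neg_mulVec, dotProduct_neg, h, neg_zero]

theorem IsAlt.smul {M : Mat} (h : IsAlt M) (c : F) : IsAlt (c • M) := fun x => by
  rw [smul_mulVec, dotProduct_smul, h, smul_zero]

theorem IsAlt.congr {M : Mat} (h : IsAlt M) (P : Mat) : IsAlt (Pᵀ * M * P) := fun x => by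
  rw [← mulVec_mulVec, ← mulVec_mulVec, dotProduct_mulVec, vecMul_transpose]
  exact h _

theorem IsAlt.congr' {M : Mat} (h : IsAlt M) (P : Mat) : IsAlt (P * M * Pᵀ) := by
  simpa using h.congr Pᵀ

theorem IsAlt.diag {M : Mat} (h : IsAlt M) (i : Fin m) : M i i = 0 := by
  simpa using h (Pi.single i 1)

theorem IsAlt.transpose {M : Mat} (h : IsAlt M) : Mᵀ = -M := by
  ext i j
  have hij := h (Pi.single i 1 + Pi.single j 1)
  simp [mulVec_add, dotProduct_add, add_dotProduct, h.diag] at hij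
  rw [Matrix.transpose_apply, Matrix.neg_apply]
  linear_combination hij

/-- `u vᵀ - v uᵀ` -/
def alt2 (u v : Fin m → F) : Matrix (Fin m) (Fin m) F := vecMulVec u v - vecMulVec v u

theorem isAlt_alt2 (u v : V) : IsAlt (alt2 u v) := fun x => by
  simp [alt2, sub_mulVec, vecMulVec_mulVec, dotProduct_sub, dotProduct_comm x u, dotProduct_comm x v]
  ring

theorem smul_alt2_mul (x : F) (u v : V) (M : Mat) :
    x • alt2 u v * M = vecMulVec u (x • (v ᵥ* M)) + vecMulVec v (-(x • (u ᵥ* M))) := by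
  rw [alt2, Matrix.smul_mul, Matrix.sub_mul, vecMulVec_mul', vecMulVec_mul', smul_sub,
    vecMulVec_neg, vecMulVec_smul, vecMulVec_smul, sub_eq_add_neg]

theorem det_one_add_alt2 {M : Mat} (hM : IsAlt M) (x : F) (u v : V) :
    (1 + x • alt2 u v * M).det = (1 - x * ((u ᵥ* M) ⬝ᵥ v)) ^ 2 := by
  have hv : (v ᵥ* M) ⬝ᵥ v = 0 := by rw [← dotProduct_mulVec]; exact hM v
  have hvu : (v ᵥ* M) ⬝ᵥ u = -((u ᵥ* M) ⬝ᵥ v) := by
    rw [← dotProduct_mulVec, dotProduct_comm, ← vecMul_transpose, hM.transpose, vecMul_neg,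
      neg_dotProduct]
  rw [smul_alt2_mul]
  have e : (1 : Mat) + (vecMulVec u (x • (v ᵥ* M)) + vecMulVec v (-(x • (u ᵥ* M)))) =
      (1 + vecMulVec u (x • (v ᵥ* M))) * (1 + vecMulVec v (-(x • (u ᵥ* M)))) := by
    rw [Matrix.add_mul, Matrix.one_mul, Matrix.mul_add, Matrix.mul_one, vecMulVec_mul_vecMulVec,
      smul_dotProduct, hv, smul_zero, zero_smul, vecMulVec_zero, add_zero]
    abel
  rw [e, det_mul, det_rank_one, det_rank_one, smul_dotProduct, neg_dotProduct, smul_dotProduct, hvu,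
    smul_eq_mul, smul_eq_mul]
  ring

/-- avoiding a hyperplane and a proper subspace -/
theorem exists_off {W : Submodule F V} (hW : W ≠ ⊤) {a : V} (ha : a ≠ 0) :
    ∃ v : V, a ⬝ᵥ v ≠ 0 ∧ v ∉ W := by
  obtain ⟨i, hi⟩ := Function.ne_iff.1 ha
  have h1 : a ⬝ᵥ Pi.single i 1 ≠ 0 := by simpa using hi
  by_cases hW1 : Pi.single i (1 : F) ∈ W
  swap
  · exact ⟨_, h1, hW1⟩
  obtain ⟨v, hv⟩ : ∃ v, v ∉ W := by
    by_contra hall; push Not at hall; exact hW (Submodule.eq_top_iff'.2 hall)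
  by_cases h2 : a ⬝ᵥ v = 0
  · refine ⟨v + Pi.single i 1, by rwa [dotProduct_add, h2, zero_add], fun h => hv ?_⟩
    exact (add_mem_cancel_right hW1).1 h
  · exact ⟨v, h2, hv⟩

theorem span_two_ne_top (hm : 3 ≤ m) (u v : V) : Submodule.span F ({u, v} : Set V) ≠ ⊤ := by
  classical
  intro h
  have h2 := finrank_span_le_card (R := F) ({u, v} : Set V)
  rw [Set.toFinset_insert, Set.toFinset_singleton] at h2
  have h3 := h2.trans Finset.card_le_two
  rw [h, finrank_top, Module.finrank_pi, Fintype.card_fin] at h3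
  omega

theorem exists_row_ne {M : Mat} (hM : M ≠ 0) : ∃ a : V, (a ᵥ* M) ≠ 0 := by
  by_contra hall
  push Not at hall
  exact hM (Matrix.ext fun i j => by simpa using congrFun (hall (Pi.single i 1)) j)

theorem alt_target [Fintype F] (hq : 4 ≤ Fintype.card F) (hm : 3 ≤ m) {M A : Mat} (hM : IsAlt M)
    (hM0 : M ≠ 0) (hA : ∀ a : F, A ≠ a • 1) (s : F) :
    ∃ S : Mat, IsAlt S ∧ (1 + S * M).det = s ^ 2 ∧ ∀ a : F, (1 + S * M) * A ≠ a • 1 := by
  obtain ⟨a, ha⟩ := exists_row_ne hM0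
  obtain ⟨u, hau, hu⟩ := exists_avoid hq hA (fun v : V => ((a ᵥ* M) ⬝ᵥ v) * ((a ᵥ* M) ⬝ᵥ v))
    (fun u v : V => 2 * (((a ᵥ* M) ⬝ᵥ u) * ((a ᵥ* M) ⬝ᵥ v)))
    (fun u v x => by simp [dotProduct_add, dotProduct_smul]; ring) (by
      obtain ⟨i, hi⟩ := Function.ne_iff.1 ha
      exact ⟨Pi.single i 1, by simpa using hi⟩)
  have huM : u ᵥ* M ≠ 0 := fun h0 => hau (by
    rw [← dotProduct_mulVec, ← vecMul_transpose, hM.transpose, vecMul_neg, h0, neg_zero,
      dotProduct_zero, mul_zero])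
  obtain ⟨v, hv, hvW⟩ := exists_off (span_two_ne_top hm u (A *ᵥ u)) huM
  set x : F := (1 - s) * ((u ᵥ* M) ⬝ᵥ v)⁻¹ with hx
  refine ⟨x • alt2 u v, (isAlt_alt2 u v).smul x, ?_, ?_⟩
  · rw [det_one_add_alt2 hM, hx, mul_assoc, inv_mul_cancel₀ hv]
    ring
  · rw [smul_alt2_mul]
    refine ns_rank_two (fun r t h => ?_) _ _
    by_cases ht : t = 0
    · rw [ht, zero_smul, add_zero] at h
      exact hu r h
    · refine hvW ?_
      have : v = t⁻¹ • (A *ᵥ u) - (t⁻¹ * r) • u := by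
        rw [h, smul_add, smul_smul, smul_smul, inv_mul_cancel₀ ht, one_smul, add_sub_cancel_left]
      rw [this]
      exact sub_mem (Submodule.smul_mem _ _ (Submodule.subset_span (by simp)))
        (Submodule.smul_mem _ _ (Submodule.subset_span (by simp)))

theorem alt_perturb [Fintype F] (hq : 4 ≤ Fintype.card F) (hm : 3 ≤ m) {M : Mat} (hM : IsAlt M)
    (hM0 : M ≠ 0) :
    ∃ S : Mat, IsAlt S ∧ (1 + S * M).det ≠ 0 ∧ ∀ a : F, (1 + S * M) ≠ a • 1 := by
  classical
  obtain ⟨u, hu⟩ := exists_row_ne hM0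
  obtain ⟨i, hi⟩ := Function.ne_iff.1 hu
  set v : V := Pi.single i 1 with hvdef
  have hc : (u ᵥ* M) ⬝ᵥ v ≠ 0 := by simpa [v] using hi
  obtain ⟨x, -, hx⟩ := Finset.exists_mem_notMem_of_card_lt_card
    (s := ({0, ((u ᵥ* M) ⬝ᵥ v)⁻¹} : Finset F)) (t := Finset.univ)
    (lt_of_le_of_lt Finset.card_le_two (by rw [Finset.card_univ]; omega))
  simp only [Finset.mem_insert, Finset.mem_singleton, not_or] at hx
  refine ⟨x • alt2 u v, (isAlt_alt2 u v).smul x, ?_, ?_⟩
  · rw [det_one_add_alt2 hM]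
    refine pow_ne_zero 2 fun h0 => hx.2 ?_
    field_simp
    linear_combination -h0
  intro a h
  obtain ⟨z, hz⟩ : ∃ z, z ∉ Submodule.span F ({u, v} : Set V) := by
    by_contra hall; push Not at hall; exact span_two_ne_top hm u v (Submodule.eq_top_iff'.2 hall)
  have e : ∀ (w : V) (r : F), MulOpposite.op r • w = r • w := fun w r => by
    funext j; simp [mul_comm]
  have hW : ∀ y, (x • alt2 u v * M) *ᵥ y ∈ Submodule.span F ({u, v} : Set V) := fun y => by
    rw [smul_alt2_mul, add_mulVec, vecMulVec_mulVec, vecMulVec_mulVec, e, e]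
    exact add_mem (Submodule.smul_mem _ _ (Submodule.subset_span (by simp)))
      (Submodule.smul_mem _ _ (Submodule.subset_span (by simp)))
  have ha : a = 1 := by
    by_contra hne
    refine hz ?_
    have h1 := congrArg (fun N : Mat => N *ᵥ z) h
    simp only [add_mulVec, one_mulVec, smul_mulVec] at h1
    have h2 : (a - 1) • z = (x • alt2 u v * M) *ᵥ z := by
      rw [sub_smul, one_smul, ← h1, add_sub_cancel_left]
    have h3 := Submodule.smul_mem _ (a - 1)⁻¹ (hW z)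
    rwa [← h2, smul_smul, inv_mul_cancel₀ (sub_ne_zero.2 hne), one_smul] at h3
  rw [ha, one_smul, add_eq_left] at h
  have hdet := det_one_add_alt2 hM x u v
  rw [h, add_zero, det_one] at hdet
  have h1 := congrArg (fun N : Mat => N *ᵥ u) h
  simp only [smul_alt2_mul, add_mulVec, vecMulVec_mulVec, zero_mulVec, e] at h1
  have huu : (u ᵥ* M) ⬝ᵥ u = 0 := by rw [← dotProduct_mulVec]; exact hM u
  have hvu : (v ᵥ* M) ⬝ᵥ u = -((u ᵥ* M) ⬝ᵥ v) := by
    rw [← dotProduct_mulVec, dotProduct_comm, ← vecMul_transpose, hM.transpose, vecMul_neg,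
      neg_dotProduct]
  rw [smul_dotProduct, neg_dotProduct, smul_dotProduct, huu, smul_zero, neg_zero, zero_smul,
    add_zero, hvu, smul_neg, smul_eq_zero, neg_eq_zero, smul_eq_mul, mul_eq_zero] at h1
  rcases h1 with (h0 | h0) | h0
  · exact hx.1 h0
  · exact hc h0
  · exact hc (by rw [h0]; simp)

theorem det_eq_zero_of_smul {A : Mat} (hm : 1 ≤ m) {a : F} (hA : A = a • 1) (h : A.det ≠ 0) :
    a ≠ 0 := by
  rintro rfl
  have : Nonempty (Fin m) := ⟨⟨0, hm⟩⟩
  rw [hA, zero_smul] at h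
  exact h det_zero

end Cfsg.Agent.ClassSquareGauss
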