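import Cfsg.Agent.Lib.ClassSquareGauss.PeelGen

/-!
# Products of two conjugates: the twisting argument and the Levi factor

If `x` normalises two subgroups `Lo`, `Up` and centralises no non-trivial element of either, then
`v * x` and `x * u` are conjugates of `x`; so an element with a Gauss decomposition whose Levi part is
a product of two conjugates of `x` is such a product itself.
-/

set_option autoImplicit false

namespace Cfsg.Agent.ClassSquareGauss

open Matrix Cfsg.Agent.Classical.Thompson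

/-! ### The class -/

/-- `g` is a product of two conjugates of `c`. -/
def Cov {G : Type*} [Group G] (c g : G) : Prop :=
  ∃ x y : G, g = (x * c * x⁻¹) * (y * c * y⁻¹)

section groups

variable {G : Type*} [Group G]

theorem Cov.conj {c g : G} (k : G) (h : Cov c (k * g * k⁻¹)) : Cov c g := by
  obtain ⟨x, y, h⟩ := h
  refine ⟨k⁻¹ * x, k⁻¹ * y, ?_⟩
  calc g = k⁻¹ * (k * g * k⁻¹) * k := by group
    _ = _ := by rw [h]; group

theorem Cov.map {M : Type*} [Group M] (φ : G →* M) {c g : G} (h : Cov c g) : Cov (φ c) (φ g) := by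
  obtain ⟨x, y, rfl⟩ := h
  exact ⟨φ x, φ y, by simp⟩

/-- transport along an automorphism fixing the class -/
theorem Cov.of_aut (φ : G ≃* G) {c g : G} (hc : ∃ k : G, φ c = k * c * k⁻¹) (h : Cov c g) :
    Cov c (φ g) := by
  obtain ⟨k, hk⟩ := hc
  obtain ⟨x, y, h⟩ := h.map φ.toMonoidHom
  refine ⟨x * k, y * k, ?_⟩
  rw [MulEquiv.coe_toMonoidHom, hk] at h
  rw [h]
  group

theorem cov_one {c : G} (h : ∃ k : G, k * c * k⁻¹ = c⁻¹) : Cov c 1 := by
  obtain ⟨k, hk⟩ := h
  exact ⟨1, k, by rw [hk]; group⟩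

theorem exists_of_center_quotient {M : Type*} [Group M] (e : G ≃* M ⧸ Subgroup.center M) (c : M)
    (h1 : ∃ k : M, k * c * k⁻¹ = c⁻¹) (h : ∀ g : M, g ∉ Subgroup.center M → Cov c g) :
    ∃ c : G, ∀ g : G, ∃ x y : G, g = (x * c * x⁻¹) * (y * c * y⁻¹) := by
  let ψ : M →* G := e.symm.toMonoidHom.comp (QuotientGroup.mk' (Subgroup.center M))
  refine ⟨ψ c, fun g => ?_⟩
  obtain ⟨g₀, hg₀⟩ := QuotientGroup.mk_surjective (e g)
  have hg : ψ g₀ = g := by
    show e.symm (QuotientGroup.mk g₀) = g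
    rw [hg₀, e.symm_apply_apply]
  by_cases hz : g₀ ∈ Subgroup.center M
  · have : g = 1 := by
      rw [← hg]
      show e.symm (QuotientGroup.mk g₀) = 1
      rw [(QuotientGroup.eq_one_iff g₀).2 hz, map_one]
    have h' := (cov_one h1).map ψ
    rwa [map_one, ← this] at h'
  · have h' := (h g₀ hz).map ψ
    rwa [hg] at h'

variable [Finite G]

theorem twist (V : Subgroup G) (x : G) (hn : ∀ v ∈ V, x * v * x⁻¹ ∈ V)
    (hf : ∀ v ∈ V, x * v = v * x → v = 1) {v : G} (hv : v ∈ V) :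
    ∃ w : G, v * x = w * x * w⁻¹ := by
  let f : V → V := fun u => ⟨(u : G) * (x * (u : G) * x⁻¹)⁻¹, V.mul_mem u.2 (V.inv_mem (hn u u.2))⟩
  have hinj : Function.Injective f := by
    intro a b hab
    have h : (a : G) * (x * (a : G) * x⁻¹)⁻¹ = (b : G) * (x * (b : G) * x⁻¹)⁻¹ :=
      congrArg Subtype.val hab
    have h1 : (b : G)⁻¹ * a = 1 := by
      refine hf _ (V.mul_mem (V.inv_mem b.2) a.2) ?_
      calc x * ((b : G)⁻¹ * a) = x * (b : G)⁻¹ * x⁻¹ * ((a : G) * (x * (a : G) * x⁻¹)⁻¹)⁻¹ *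
            (a : G) * x := by group
        _ = x * (b : G)⁻¹ * x⁻¹ * ((b : G) * (x * (b : G) * x⁻¹)⁻¹)⁻¹ * (a : G) * x := by rw [h]
        _ = (b : G)⁻¹ * a * x := by group
    exact Subtype.ext (inv_mul_eq_one.1 h1).symm
  obtain ⟨u, hu⟩ := Finite.surjective_of_injective hinj ⟨v, hv⟩
  have hu' : (u : G) * (x * (u : G) * x⁻¹)⁻¹ = v := congrArg Subtype.val hu
  exact ⟨u, by rw [← hu']; group⟩

variable {H : Type*} [Group H]

theorem cov_gauss (L : H →* G) (Lo Up : Subgroup G)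
    (hLo : ∀ h : H, ∀ v ∈ Lo, L h * v * (L h)⁻¹ ∈ Lo)
    (hUp : ∀ h : H, ∀ v ∈ Up, L h * v * (L h)⁻¹ ∈ Up) (b : H)
    (fLo : ∀ v ∈ Lo, L b * v = v * L b → v = 1) (fUp : ∀ v ∈ Up, L b * v = v * L b → v = 1)
    {g v u : G} (hv : v ∈ Lo) (hu : u ∈ Up) (P Q : H)
    (hg : g = v * L (P * b * P⁻¹ * (Q * b * Q⁻¹)) * u) : Cov (L b) g := by
  have hv' : (L P)⁻¹ * v * L P ∈ Lo := by
    have := hLo P⁻¹ v hv; rwa [map_inv, inv_inv] at this
  have hu' : L b * ((L Q)⁻¹ * u * L Q) * (L b)⁻¹ ∈ Up := by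
    refine hUp b _ ?_
    have := hUp Q⁻¹ u hu; rwa [map_inv, inv_inv] at this
  obtain ⟨w₁, h₁⟩ := twist Lo (L b) (hLo b) fLo hv'
  obtain ⟨w₂, h₂⟩ := twist Up (L b) (hUp b) fUp hu'
  refine ⟨L P * w₁, L Q * w₂, ?_⟩
  calc g = L P * (((L P)⁻¹ * v * L P) * L b) * (L P)⁻¹ *
        (L Q * (L b * ((L Q)⁻¹ * u * L Q) * (L b)⁻¹ * L b) * (L Q)⁻¹) := by
        rw [hg]; simp only [map_mul, map_inv]; group
    _ = _ := by rw [h₁, h₂]; group

end groups

/-! ### Linear algebra -/

variable {F : Type*} [Field F] {k : ℕ}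

theorem det_smul_sub_one {ι : Type*} [Fintype ι] [DecidableEq ι] {N : Matrix ι ι F} {n : ℕ}
    (hN : (N - 1) ^ n = 0) {c : F} (hc : c ≠ 1) : (c • N - 1).det ≠ 0 := by
  have hu : IsUnit ((c - 1) • (1 : Matrix ι ι F)) :=
    (isUnit_iff_ne_zero.2 (sub_ne_zero.2 hc)).map (algebraMap F (Matrix ι ι F)) |> fun h => by
      rwa [Algebra.algebraMap_eq_smul_one] at h
  have hnil : IsNilpotent (c • (N - 1)) := ⟨n, by rw [smul_pow, hN, smul_zero]⟩
  have h := IsNilpotent.isUnit_add_left_of_commute hnil hu ((Commute.one_right _).smul_right _)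
  have e : (c - 1) • (1 : Matrix ι ι F) + c • (N - 1) = c • N - 1 := by module
  rw [e] at h
  exact ((Matrix.isUnit_iff_isUnit_det _).1 h).ne_zero

theorem det_smul_sub_smul {ι : Type*} [Fintype ι] [DecidableEq ι] {N : Matrix ι ι F} {n : ℕ}
    (hN : (N - 1) ^ n = 0) {c d : F} (hd : d ≠ 0) (hcd : c ≠ d) : (c • N - d • 1).det ≠ 0 := by
  have h : c • N - d • 1 = d • ((d⁻¹ * c) • N - 1) := by
    rw [smul_sub, smul_smul, ← mul_assoc, mul_inv_cancel₀ hd, one_mul]
  rw [h, det_smul]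
  refine mul_ne_zero (pow_ne_zero _ hd) (det_smul_sub_one hN fun h1 => hcd ?_)
  have := congrArg (fun z => d * z) h1
  simpa [← mul_assoc, mul_inv_cancel₀ hd] using this

/-- `diag (d, c J)` on `Fin 1 ⊕ Fin k`. -/
def blockSum (d c : F) (k : ℕ) : Matrix (Fin 1 ⊕ Fin k) (Fin 1 ⊕ Fin k) F :=
  fromBlocks (d • 1) 0 0 (c • jord F k)

/-- `diag (d, c J)`. -/
def blockB (d c : F) (k : ℕ) : Matrix (Fin (1 + k)) (Fin (1 + k)) F :=
  (blockSum d c k).reindex finSumFinEquiv finSumFinEquiv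

theorem blockB_det (d c : F) (k : ℕ) : (blockB d c k).det = d * c ^ k := by
  rw [blockB, det_reindex_self, blockSum, det_fromBlocks_zero₂₁, det_smul, det_smul, jord_det]
  simp

/-- `diag (d, c J)` as an invertible matrix. -/
noncomputable def bGL (d c : Fˣ) (k : ℕ) : GL (Fin (1 + k)) F :=
  GeneralLinearGroup.mkOfDetNeZero (blockB (d : F) c k) (by rw [blockB_det]; simp)

theorem bGL_val (d c : Fˣ) (k : ℕ) :
    ((bGL d c k : GL (Fin (1 + k)) F) : Matrix (Fin (1 + k)) (Fin (1 + k)) F) = blockB (d : F) c k :=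
  rfl

theorem exists_centralizing (d c : Fˣ) (k : ℕ) (t : Fˣ) :
    ∃ Z : GL (Fin (1 + k)) F, (Z : Matrix (Fin (1 + k)) (Fin (1 + k)) F).det = t ∧
      Z * bGL d c k = bGL d c k * Z := by
  refine ⟨GeneralLinearGroup.mkOfDetNeZero ((fromBlocks ((t : F) • 1) 0 0 1).reindex
    finSumFinEquiv finSumFinEquiv) (by rw [det_reindex_self, det_fromBlocks_zero₂₁]; simp), ?_,
    Units.ext ?_⟩
  · show ((fromBlocks ((t : F) • 1) 0 0 1).reindex finSumFinEquiv finSumFinEquiv).det = _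
    rw [det_reindex_self, det_fromBlocks_zero₂₁]; simp
  · show (fromBlocks ((t : F) • 1) 0 0 1).reindex finSumFinEquiv finSumFinEquiv * blockB (d : F) c k =
      blockB (d : F) c k * (fromBlocks ((t : F) • 1) 0 0 1).reindex finSumFinEquiv finSumFinEquiv
    simp only [blockB, blockSum, reindex_apply, submatrix_mul_equiv, fromBlocks_multiply]
    simp [smul_smul, mul_comm]

theorem adjust (d c : Fˣ) (k : ℕ) {X : Matrix (Fin (1 + k)) (Fin (1 + k)) F}
    (h : Sim X (blockB (d : F) c k)) :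
    ∃ P : GL (Fin (1 + k)) F, (P : Matrix (Fin (1 + k)) (Fin (1 + k)) F).det = 1 ∧
      X = ((P * bGL d c k * P⁻¹ : GL (Fin (1 + k)) F) : Matrix (Fin (1 + k)) (Fin (1 + k)) F) := by
  obtain ⟨P, Q, hPQ, rfl⟩ := h
  let P0 : GL (Fin (1 + k)) F := ⟨P, Q, hPQ, mul_eq_one_comm.1 hPQ⟩
  obtain ⟨Z, hZ, hZB⟩ := exists_centralizing d c k (Matrix.GeneralLinearGroup.det P0)⁻¹
  refine ⟨P0 * Z, ?_, ?_⟩
  · rw [Units.val_mul, det_mul, hZ]
    show P.det * _ = 1
    rw [show P.det = (Matrix.GeneralLinearGroup.det P0 : F) from rfl, ← Units.val_mul,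
      mul_inv_cancel, Units.val_one]
  · have : P0 * Z * bGL d c k * (P0 * Z)⁻¹ = P0 * bGL d c k * P0⁻¹ := by
      rw [mul_assoc P0 Z, hZB]; group
    rw [this]
    rfl

theorem sim_smul {ι : Type*} [Fintype ι] [DecidableEq ι] {M N : Matrix ι ι F} (h : Sim M N) (c : F) :
    Sim (c • M) (c • N) := by
  obtain ⟨P, Q, hPQ, rfl⟩ := h
  exact ⟨P, Q, hPQ, by simp⟩

/-- A non-scalar matrix of the right determinant is a product of two matrices similar to `blockB`. -/
theorem exists_two (hK : 4 ≤ Cardinal.mk F) (d c : Fˣ) (hdc : (d : F) ≠ c) {k : ℕ} (hk : 1 ≤ k)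
    {γ : F} (hγ0 : γ ≠ 0) (hγ1 : γ ≠ 1) (A : Matrix (Fin (1 + k)) (Fin (1 + k)) F)
    (hdet : A.det = ((d : F) * (c : F) ^ k) ^ 2) (hns : ∀ a : F, A ≠ a • 1) :
    ∃ P Q : GL (Fin (1 + k)) F, (P : Matrix (Fin (1 + k)) (Fin (1 + k)) F).det = 1 ∧
      (Q : Matrix (Fin (1 + k)) (Fin (1 + k)) F).det = 1 ∧
      A = ((P * bGL d c k * P⁻¹ * (Q * bGL d c k * Q⁻¹) : GL (Fin (1 + k)) F) :
        Matrix (Fin (1 + k)) (Fin (1 + k)) F) := by
  have hd : (d : F) ≠ 0 := d.ne_zero
  have hc : (c : F) ≠ 0 := c.ne_zero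
  set A1 := ((d : F) * d)⁻¹ • A with hA1
  have hA : A = ((d : F) * d) • A1 := by
    rw [hA1, smul_smul, mul_inv_cancel₀ (mul_ne_zero hd hd), one_smul]
  have hA1d : A1.det ≠ 0 := by
    intro h0; rw [hA, det_smul, h0, mul_zero] at hdet
    exact absurd hdet.symm (pow_ne_zero _ (mul_ne_zero hd (pow_ne_zero _ hc)))
  have hA1ns : ∀ a : F, A1 ≠ a • 1 := fun a h => hns ((d : F) * d * a) (by rw [hA, h, smul_smul])
  obtain ⟨R, C, S, hS, -, hSns, hsim⟩ := peel_gen A1 hA1d hA1ns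
  set e : F := (c : F) * c * ((d : F) * d)⁻¹ with he
  have he0 : e ≠ 0 := mul_ne_zero (mul_ne_zero hc hc) (inv_ne_zero (mul_ne_zero hd hd))
  have hSd : (e⁻¹ • S).det = 1 := by
    rw [det_smul, hS, hA1, det_smul, hdet, he, Fintype.card_fin, Fintype.card_fin, pow_add, pow_one]
    simp only [inv_pow, mul_pow, mul_inv, inv_inv]
    field_simp
    try ring
  obtain ⟨L, U, hL, hU, hLU⟩ : ∃ L U : Matrix (Fin k) (Fin k) F,
      Sim L (jord F k) ∧ Sim U (jord F k) ∧ e⁻¹ • S = L * U := by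
    rcases Nat.lt_or_ge k 2 with h1 | h2
    · obtain rfl : k = 1 := by omega
      refine ⟨1, 1, ?_, ?_, by rw [mul_one]; exact det_one_fin hSd⟩ <;>
        rw [← det_one_fin (jord_det (F := F) 1)] <;> exact Sim.refl _
    · obtain ⟨L, U, B', hBB, hL, hU, hLU⟩ := splits_jord hK hγ0 hγ1 h2 (e⁻¹ • S) hSd fun a h =>
        hSns h2 (e * a) (by
          rw [← smul_smul, ← h, smul_smul, mul_inv_cancel₀ he0, one_smul])
      refine ⟨L, U, hL, hU.trans ?_, hLU⟩
      rw [← Matrix.inv_eq_right_inv hBB]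
      exact jord_inv_sim k
  have hS' : S = e • (L * U) := by rw [← hLU, smul_smul, mul_inv_cancel₀ he0, one_smul]
  set X1 := fromBlocks ((d : F) • (1 : Matrix (Fin 1) (Fin 1) F)) 0 ((d : F) • C) ((c : F) • L)
  set X2 := fromBlocks ((d : F) • (1 : Matrix (Fin 1) (Fin 1) F)) ((d : F) • R) 0 ((c : F) • U)
  have hprod : ((d : F) * d) • fromBlocks 1 R C (C * R + S) = X1 * X2 := by
    simp only [X1, X2, fromBlocks_multiply, fromBlocks_smul, hS', he]
    congr 1 <;> simp [smul_smul, smul_add, Matrix.smul_mul, Matrix.mul_smul]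
    field_simp
  have hdisj : ∀ {L : Matrix (Fin k) (Fin k) F}, Sim L (jord F k) →
      Disj ((d : F) • (1 : Matrix (Fin 1) (Fin 1) F)) ((c : F) • L) := fun {L} hL => by
    refine (disj_smul ?_).sim (Sim.refl _) (sim_smul hL _)
    exact det_smul_sub_smul (jord_nil k) hd (Ne.symm hdc)
  have hX1 : Sim X1 (blockSum (d : F) c k) :=
    (sim_lower (hdisj hL) _).trans ((Sim.refl _).fromBlocks (sim_smul hL _))
  have hX2 : Sim X2 (blockSum (d : F) c k) :=
    (sim_upper (hdisj hU) _).trans ((Sim.refl _).fromBlocks (sim_smul hU _))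
  obtain ⟨T, T', hT, hTA⟩ := sim_smul hsim ((d : F) * d)
  rw [← hA] at hTA
  have hX1' := hX1.reindex (finSumFinEquiv (m := 1) (n := k))
  have hX2' := hX2.reindex (finSumFinEquiv (m := 1) (n := k))
  have hre : ((d : F) * d) • (fromBlocks 1 R C (C * R + S)).reindex finSumFinEquiv finSumFinEquiv =
      X1.reindex finSumFinEquiv finSumFinEquiv * X2.reindex finSumFinEquiv finSumFinEquiv := by
    simp only [reindex_apply, submatrix_mul_equiv]
    rw [← hprod]
    rfl
  rw [hre, ← Sim.mul T T' hT rfl rfl] at hTA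
  obtain ⟨P, hP, hPX⟩ := adjust d c k (Sim.trans ⟨T, T', hT, rfl⟩ hX1')
  obtain ⟨Q, hQ, hQX⟩ := adjust d c k (Sim.trans ⟨T, T', hT, rfl⟩ hX2')
  exact ⟨P, Q, hP, hQ, by rw [Units.val_mul, ← hPX, ← hQX, hTA]⟩

theorem exists_transpose (d c : Fˣ) (k : ℕ) :
    ∃ P : GL (Fin (1 + k)) F, (P : Matrix (Fin (1 + k)) (Fin (1 + k)) F).det = 1 ∧
      (blockB (d : F) c k)ᵀ =
        ((P * bGL d c k * P⁻¹ : GL (Fin (1 + k)) F) : Matrix (Fin (1 + k)) (Fin (1 + k)) F) := by
  refine adjust d c k ?_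
  rw [blockB, reindex_apply, transpose_submatrix, blockSum, fromBlocks_transpose]
  simp only [transpose_smul, transpose_one, transpose_zero]
  exact Sim.reindex ((Sim.refl _).fromBlocks (sim_smul (jord_transpose_sim k) _)) finSumFinEquiv

/-- The shapes of the twisted equations: no fixed form. -/
theorem fix_sum {k : ℕ} {N : Matrix (Fin k) (Fin k) F} (hN : (N - 1) ^ k = 0) {d c : F}
    (hdc : d * c ≠ 1) (hcc : c * c ≠ 1) {R : Matrix (Fin 1 ⊕ Fin k) (Fin 1 ⊕ Fin k) F}
    (h00 : d * d ≠ 1 ∨ R (Sum.inl 0) (Sum.inl 0) = 0)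
    (h : (fromBlocks (d • (1 : Matrix (Fin 1) (Fin 1) F)) 0 0 (c • N))ᵀ * R *
      fromBlocks (d • (1 : Matrix (Fin 1) (Fin 1) F)) 0 0 (c • N) = R) : R = 0 := by
  rw [← fromBlocks_toBlocks R] at h ⊢
  set R11 := R.toBlocks₁₁
  set R12 := R.toBlocks₁₂
  set R21 := R.toBlocks₂₁
  set R22 := R.toBlocks₂₂
  simp only [fromBlocks_transpose, fromBlocks_multiply, transpose_zero, Matrix.zero_mul,
    Matrix.mul_zero, add_zero, zero_add, fromBlocks_inj, transpose_smul, transpose_one,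
    Matrix.smul_mul, Matrix.mul_smul, Matrix.one_mul, Matrix.mul_one, smul_smul] at h
  obtain ⟨h11, h12, h21, h22⟩ := h
  have hNt : (Nᵀ - 1) ^ k = 0 := by
    rw [← transpose_one, ← transpose_sub, ← transpose_pow, hN, transpose_zero]
  have e11 : R11 = 0 := by
    ext i j
    rw [Subsingleton.elim i 0, Subsingleton.elim j 0, Matrix.zero_apply]
    rcases h00 with hd | h0
    · have := congrFun (congrFun h11 0) 0
      rw [Matrix.smul_apply, smul_eq_mul] at this
      by_contra hne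
      exact hd (mul_right_cancel₀ hne (this.trans (one_mul _).symm))
    · exact h0
  have hu : ∀ {M : Matrix (Fin k) (Fin k) F}, (M - 1) ^ k = 0 →
      IsUnit ((d * c) • M - 1).det := fun hM => isUnit_iff_ne_zero.2 (det_smul_sub_one hM hdc)
  have e12 : R12 = 0 := by
    have h0 : R12 * ((d * c) • N - 1) = 0 := by
      rw [Matrix.mul_sub, Matrix.mul_one, Matrix.mul_smul, sub_eq_zero, mul_comm d c]; exact h12
    calc R12 = R12 * ((d * c) • N - 1) * ((d * c) • N - 1)⁻¹ := by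
          rw [Matrix.mul_assoc, Matrix.mul_nonsing_inv _ (hu hN), Matrix.mul_one]
      _ = 0 := by rw [h0, Matrix.zero_mul]
  have e21 : R21 = 0 := by
    have h0 : ((d * c) • Nᵀ - 1) * R21 = 0 := by
      rw [Matrix.sub_mul, Matrix.one_mul, Matrix.smul_mul, sub_eq_zero]; exact h21
    calc R21 = ((d * c) • Nᵀ - 1)⁻¹ * (((d * c) • Nᵀ - 1) * R21) := by
          rw [← Matrix.mul_assoc, Matrix.nonsing_inv_mul _ (hu hNt), Matrix.one_mul]
      _ = 0 := by rw [h0, Matrix.mul_zero]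
  have hNu : IsUnit N.det := isUnit_iff_ne_zero.2 fun h0 => by
    have := det_smul_sub_one (N := N) hN (c := (0 : F)) zero_ne_one
    have hn : IsUnit N := by
      have h' := IsNilpotent.isUnit_add_left_of_commute (⟨k, hN⟩ : IsNilpotent (N - 1)) isUnit_one
        (Commute.one_right _)
      rwa [add_sub_cancel] at h'
    exact ((Matrix.isUnit_iff_isUnit_det _).1 hn).ne_zero h0
  have hNi : (N⁻¹ - 1) ^ k = 0 := by
    have hc' : Commute (-N⁻¹) (N - 1) :=
      (Commute.sub_right ((Matrix.nonsing_inv_mul _ hNu).trans (Matrix.mul_nonsing_inv _ hNu).symm)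
        (Commute.one_right _)).neg_left
    have e : N⁻¹ - 1 = -N⁻¹ * (N - 1) := by
      rw [Matrix.mul_sub, Matrix.neg_mul, Matrix.nonsing_inv_mul _ hNu, Matrix.mul_one]; abel
    rw [e, hc'.mul_pow, hN, Matrix.mul_zero]
  have e22 : R22 = 0 := by
    refine (disj_unipotent (P := (c * c) • Nᵀ) (det_smul_sub_one hNt hcc) hNi).2 R22 ?_
    rw [Matrix.smul_mul]
    calc (c * c) • (Nᵀ * R22) = ((c * c) • (Nᵀ * R22 * N)) * N⁻¹ := by
          rw [Matrix.smul_mul, Matrix.mul_nonsing_inv_cancel_right _ _ hNu]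
      _ = R22 * N⁻¹ := by rw [h22]
  rw [e11, e12, e21, e22, fromBlocks_zero]

theorem fix_form {k : ℕ} {d c : F} (hdc : d * c ≠ 1) (hcc : c * c ≠ 1)
    {R : Matrix (Fin (1 + k)) (Fin (1 + k)) F} (h00 : d * d ≠ 1 ∨ R 0 0 = 0)
    (h : (blockB d c k)ᵀ * R * blockB d c k = R) : R = 0 := by
  set e := finSumFinEquiv (m := 1) (n := k)
  have h' := congrArg (fun M : Matrix (Fin (1 + k)) (Fin (1 + k)) F => M.submatrix e e) h
  simp only [blockB, reindex_apply, transpose_submatrix, ← submatrix_mul_equiv _ _ _ e _,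
    submatrix_submatrix] at h'
  simp only [e, Equiv.symm_comp_self, submatrix_id_id] at h'
  have h0 := fix_sum (jord_nil k) hdc hcc (R := R.submatrix e e) h00 h'
  ext i j
  simpa using congrFun (congrFun h0 (e.symm i)) (e.symm j)

theorem fix_form' {k : ℕ} {d c : F} (hdc : d * c ≠ 1) (hcc : c * c ≠ 1)
    {R : Matrix (Fin (1 + k)) (Fin (1 + k)) F} (h00 : d * d ≠ 1 ∨ R 0 0 = 0)
    (h : blockB d c k * R * (blockB d c k)ᵀ = R) : R = 0 := by
  set e := finSumFinEquiv (m := 1) (n := k)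
  have h' := congrArg (fun M : Matrix (Fin (1 + k)) (Fin (1 + k)) F => M.submatrix e e) h
  simp only [blockB, reindex_apply, transpose_submatrix, ← submatrix_mul_equiv _ _ _ e _,
    submatrix_submatrix] at h'
  simp only [e, Equiv.symm_comp_self, submatrix_id_id] at h'
  have hJ : ((jord F k)ᵀ - 1) ^ k = 0 := by
    rw [← transpose_one, ← transpose_sub, ← transpose_pow, jord_nil, transpose_zero]
  have h0 := fix_sum hJ hdc hcc (R := R.submatrix e e) h00 (by
    simpa [blockSum, fromBlocks_transpose] using h')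
  ext i j
  simpa using congrFun (congrFun h0 (e.symm i)) (e.symm j)

theorem det_blockB_sub_one {k : ℕ} {d c : F} (hd : d ≠ 1) (hc : c ≠ 1) :
    (blockB d c k - 1).det ≠ 0 := by
  have h : blockB d c k - 1 = blockB d c k - (1 : F) • 1 := by rw [one_smul]
  rw [h, blockB, reindex_sub_scalar, blockSum, det_sub_scalar_blocks]
  refine mul_ne_zero ?_ (det_smul_sub_smul (jord_nil k) one_ne_zero hc)
  rw [← sub_smul, det_smul, det_one, mul_one]
  exact pow_ne_zero _ (sub_ne_zero.2 hd)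

/-! ### Avoidance -/

theorem exists_avoid [Fintype F] (hq : 4 ≤ Fintype.card F) {n : ℕ}
    {A : Matrix (Fin n) (Fin n) F} (hA : ∀ a : F, A ≠ a • 1) (f : (Fin n → F) → F)
    (p : (Fin n → F) → (Fin n → F) → F)
    (hf : ∀ u v : Fin n → F, ∀ x : F, f (u + x • v) = f u + x * p u v + x * x * f v)
    (hne : ∃ v, f v ≠ 0) : ∃ v, f v ≠ 0 ∧ ∀ a : F, A *ᵥ v ≠ a • v := by
  classical
  obtain ⟨v1, hv1⟩ := hne
  by_cases h1 : ∀ a : F, A *ᵥ v1 ≠ a • v1
  · exact ⟨v1, hv1, h1⟩
  push Not at h1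
  obtain ⟨a, ha⟩ := h1
  obtain ⟨u, hu⟩ := exists_not_eigen hA
  have hcard : ∀ (P : F → Prop) [DecidablePred P], (∀ x y, P x → P y → x = y) →
      (Finset.univ.filter P).card ≤ 1 := fun P _ hP =>
    Finset.card_le_one.2 fun x hx y hy => hP x y (Finset.mem_filter.1 hx).2 (Finset.mem_filter.1 hy).2
  -- at most two roots
  have hroot : (Finset.univ.filter fun x : F => f u + x * p u v1 + x * x * f v1 = 0).card ≤ 2 := by
    by_contra hc
    push Not at hc
    obtain ⟨x, y, z, hx, hy, hz, hxy, hxz, hyz⟩ := Finset.two_lt_card_iff.1 hc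
    simp only [Finset.mem_filter, Finset.mem_univ, true_and] at hx hy hz
    have e1 : p u v1 + (x + y) * f v1 = 0 :=
      (mul_eq_zero.1 (show (x - y) * (p u v1 + (x + y) * f v1) = 0 by
        linear_combination hx - hy)).resolve_left (sub_ne_zero.2 hxy)
    have e2 : p u v1 + (x + z) * f v1 = 0 :=
      (mul_eq_zero.1 (show (x - z) * (p u v1 + (x + z) * f v1) = 0 by
        linear_combination hx - hz)).resolve_left (sub_ne_zero.2 hxz)
    have : (y - z) * f v1 = 0 := by linear_combination e1 - e2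
    exact mul_ne_zero (sub_ne_zero.2 hyz) hv1 this
  have heig : (Finset.univ.filter fun x : F => ∃ b : F, A *ᵥ (u + x • v1) = b • (u + x • v1)).card ≤ 1 := by
    refine hcard _ fun x y hx hy => ?_
    obtain ⟨b, hb⟩ := hx
    obtain ⟨b', hb'⟩ := hy
    simp only [Matrix.mulVec_add, Matrix.mulVec_smul, ha, smul_add, smul_smul] at hb hb'
    have hv10 : v1 ≠ 0 := by
      rintro rfl
      have h := hf 0 0 0
      have h' := hf 0 0 1
      have h'' := hf 0 0 (-1)
      simp only [zero_smul, smul_zero, add_zero] at h h' h''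
      have h4 : ∀ t : F, f 0 = f 0 + t * p 0 0 + t * t * f 0 := fun t => by
        simpa using hf 0 0 t
      obtain ⟨t, ht⟩ := Finset.exists_mem_notMem_of_card_lt_card (s := ({0, 1, -1} : Finset F))
        (t := Finset.univ) (lt_of_le_of_lt Finset.card_le_three (by rw [Finset.card_univ]; omega))
      simp only [Finset.mem_univ, Finset.mem_insert, Finset.mem_singleton, not_or, true_and] at ht
      have e1 := h4 1
      have e2 := h4 t
      have : t * (t - 1) * f 0 = 0 := by linear_combination t * e1 - e2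
      exact mul_ne_zero (mul_ne_zero ht.1 (sub_ne_zero.2 ht.2.1)) hv1 this
    have key : (b - b') • u = ((x * a - b * x) - (y * a - b' * y)) • v1 := by
      have e1 : A *ᵥ u = b • u + (b * x) • v1 - (x * a) • v1 := by rw [← hb]; abel
      have e2 : A *ᵥ u = b' • u + (b' * y) • v1 - (y * a) • v1 := by rw [← hb']; abel
      have e := e1.symm.trans e2
      have : (b - b') • u - (((x * a - b * x) - (y * a - b' * y)) • v1) =
          (b • u + (b * x) • v1 - (x * a) • v1) - (b' • u + (b' * y) • v1 - (y * a) • v1) := by module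
      rw [e, sub_self, sub_eq_zero] at this
      exact this
    have hbb : b = b' := by
      by_contra hne'
      refine hu a ?_
      have : u = ((b - b')⁻¹ * ((x * a - b * x) - (y * a - b' * y))) • v1 := by
        rw [← smul_smul, ← key, smul_smul, inv_mul_cancel₀ (sub_ne_zero.2 hne'), one_smul]
      rw [this, Matrix.mulVec_smul, ha, smul_smul, smul_smul, mul_comm]
    subst hbb
    rw [sub_self, zero_smul] at key
    have := (smul_eq_zero.1 key.symm).resolve_right hv10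
    have hab : a ≠ b := by
      rintro rfl
      refine hu a ?_
      have e1 : A *ᵥ u = a • u + (a * x) • v1 - (x * a) • v1 := by rw [← hb]; abel
      rwa [mul_comm x a, add_sub_cancel_right] at e1
    exact mul_left_cancel₀ (sub_ne_zero.2 hab)
      (show (a - b) * x = (a - b) * y by linear_combination this)
  obtain ⟨x, -, hx⟩ := Finset.exists_mem_notMem_of_card_lt_card
    (s := (Finset.univ.filter fun x : F => f u + x * p u v1 + x * x * f v1 = 0) ∪
      (Finset.univ.filter fun x : F => ∃ b : F, A *ᵥ (u + x • v1) = b • (u + x • v1)))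
    (t := Finset.univ)
    (lt_of_le_of_lt (Finset.card_union_le _ _) (by rw [Finset.card_univ]; omega))
  simp only [Finset.mem_union, Finset.mem_filter, Finset.mem_univ, true_and, not_or] at hx
  exact ⟨u + x • v1, by rw [hf]; exact hx.1, fun b hb => hx.2 ⟨b, hb⟩⟩

end Cfsg.Agent.ClassSquareGauss
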