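import Cfsg.Agent.Lib.ClassSquareGauss.Core

/-!
# A class of `PSL_n(F)` whose square is everything
-/

set_option autoImplicit false

namespace Cfsg.Agent.ClassSquareGauss.Linear

open Matrix Cfsg.Agent.Classical.Thompson

variable {F : Type*} [Field F]

theorem sim_perm {ι : Type*} [Fintype ι] [DecidableEq ι] (M : Matrix ι ι F) (σ : ι ≃ ι) :
    Sim (M.submatrix σ σ) M := by
  refine ⟨(1 : Matrix ι ι F).submatrix σ id, (1 : Matrix ι ι F).submatrix id σ, ?_, ?_⟩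
  · ext i j; simp [Matrix.mul_apply, Matrix.one_apply]
  · ext i j; simp [Matrix.mul_apply, Matrix.one_apply]

/-- the index -/
def idx (m : ℕ) : Fin 1 ⊕ (Fin 1 ⊕ Fin m) ≃ Fin (1 + (1 + m)) :=
  ((Equiv.refl _).sumCongr finSumFinEquiv).trans finSumFinEquiv

/-- `diag (γ, γ⁻¹, J)` -/
def slB (γ : F) (m : ℕ) : Matrix (Fin (1 + (1 + m))) (Fin (1 + (1 + m))) F :=
  (fromBlocks (γ • 1) 0 0 (fromBlocks (γ⁻¹ • 1) 0 0 (jord F m))).reindex (idx m) (idx m)

theorem slB_eq (γ : F) (m : ℕ) : slB γ m =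
    (fromBlocks (γ • 1) 0 0 ((fromBlocks (γ⁻¹ • 1) 0 0 (jord F m)).reindex finSumFinEquiv
      finSumFinEquiv)).reindex finSumFinEquiv finSumFinEquiv := by
  ext i j
  obtain ⟨a, rfl⟩ := (idx m).surjective i
  obtain ⟨b, rfl⟩ := (idx m).surjective j
  simp only [slB, reindex_apply, submatrix_apply, Equiv.symm_apply_apply]
  rcases a with a | a <;> rcases b with b | b <;> simp [idx]

theorem slB_det {γ : F} (hγ : γ ≠ 0) (m : ℕ) : (slB γ m).det = 1 := by
  rw [slB, det_reindex_self, det_fromBlocks_zero₂₁, det_fromBlocks_zero₂₁, jord_det]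
  simp [hγ]

theorem slB_good {γ : F} (hγ : γ ≠ 0) (m : ℕ) : Good (slB γ m) := by
  refine ⟨slB_det hγ m, fun t _ => ⟨(fromBlocks (t • 1) 0 0 1).reindex (idx m) (idx m), ?_, ?_⟩⟩
  · rw [det_reindex_self, det_fromBlocks_zero₂₁]; simp
  · simp only [slB, reindex_apply, submatrix_mul_equiv, fromBlocks_multiply]
    simp [smul_smul, mul_comm]

theorem slB_real {γ : F} (hγ : γ ≠ 0) (m : ℕ) : Sim (slB γ m)⁻¹ (slB γ m) := by
  have hj : jord F m * (jord F m)⁻¹ = 1 :=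
    Matrix.mul_nonsing_inv _ (by rw [jord_det]; exact isUnit_one)
  have hinv : (slB γ m)⁻¹ =
      (fromBlocks (γ⁻¹ • 1) 0 0 (fromBlocks (γ • 1) 0 0 (jord F m)⁻¹)).reindex (idx m) (idx m) := by
    refine Matrix.inv_eq_right_inv ?_
    simp only [slB, reindex_apply, submatrix_mul_equiv, fromBlocks_multiply]
    simp [smul_smul, hγ, hj]
  rw [hinv, slB]
  refine Sim.reindex (((Sim.refl _).fromBlocks ((Sim.refl _).fromBlocks (jord_inv_sim m))).trans ?_) _
  let σ : Fin 1 ⊕ (Fin 1 ⊕ Fin m) ≃ Fin 1 ⊕ (Fin 1 ⊕ Fin m) :=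
    { toFun := fun x => match x with
        | Sum.inl a => Sum.inr (Sum.inl a)
        | Sum.inr (Sum.inl a) => Sum.inl a
        | Sum.inr (Sum.inr a) => Sum.inr (Sum.inr a)
      invFun := fun x => match x with
        | Sum.inl a => Sum.inr (Sum.inl a)
        | Sum.inr (Sum.inl a) => Sum.inl a
        | Sum.inr (Sum.inr a) => Sum.inr (Sum.inr a)
      left_inv := fun x => by rcases x with a | a | a <;> rfl
      right_inv := fun x => by rcases x with a | a | a <;> rfl }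
  convert sim_perm (fromBlocks (γ • 1) 0 0 (fromBlocks (γ⁻¹ • 1) 0 0 (jord F m))) σ using 1
  ext i j
  rcases i with a | a | a <;> rcases j with b | b | b <;> simp [σ, Matrix.one_apply]

theorem splits_slB (hK : 4 ≤ Cardinal.mk F) {γ : F} (hγ0 : γ ≠ 0) (hγ : γ * γ ≠ 1) {m : ℕ}
    (A : Matrix (Fin (1 + (1 + m))) (Fin (1 + (1 + m))) F) (hdet : A.det = 1)
    (hns : ∀ a : F, A ≠ a • 1) : Splits A (slB γ m) := by
  have hγ1 : γ ≠ 1 := fun h => hγ (by rw [h, one_mul])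
  have hγi : γ⁻¹ ≠ γ := fun h => hγ (by nth_rw 1 [← h]; exact inv_mul_cancel₀ hγ0)
  have hγi1 : γ⁻¹ ≠ 1 := fun h => hγ1 (inv_eq_one.1 h)
  rw [slB_eq]
  obtain ⟨R, C, S, hS, -, hSns, hsim⟩ := peel A hdet hns
  refine (Splits.reindex ?_ finSumFinEquiv).sim hsim
  refine Splits.top hγ0 ?_ ?_ R C
  · rw [reindex_sub_scalar, det_sub_scalar_blocks]
    refine mul_ne_zero ?_ ?_
    · rw [← sub_smul, det_smul, det_one, mul_one]
      exact pow_ne_zero _ (sub_ne_zero.2 hγi)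
    · rw [show jord F m - γ • 1 = (1 : F) • jord F m - γ • 1 by rw [one_smul]]
      exact det_smul_sub_smul (jord_nil m) hγ0 (Ne.symm hγ1)
  rcases Nat.eq_zero_or_pos m with rfl | hm
  · have hS1 : S = 1 := det_one_fin (S := S) hS
    subst hS1
    convert splits_scalar (ι := Fin (1 + 0)) (inv_ne_zero hγ0) using 1
    ext i j
    obtain ⟨a, rfl⟩ := (finSumFinEquiv (m := 1) (n := 0)).surjective i
    obtain ⟨b, rfl⟩ := (finSumFinEquiv (m := 1) (n := 0)).surjective j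
    rcases a with a | a
    · rcases b with b | b
      · simp [Matrix.one_apply]
      · exact b.elim0
    · exact a.elim0
  obtain ⟨R', C', T, hT, -, hTns, hsim'⟩ := peel S hS (hSns (by omega))
  refine (Splits.reindex ?_ finSumFinEquiv).sim hsim'
  refine Splits.top (inv_ne_zero hγ0) ?_ ?_ R' C'
  · rw [show jord F m - γ⁻¹ • 1 = (1 : F) • jord F m - γ⁻¹ • 1 by rw [one_smul]]
    exact det_smul_sub_smul (jord_nil m) (inv_ne_zero hγ0) (Ne.symm hγi1)
  rcases Nat.lt_or_ge m 2 with h1 | h2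
  · obtain rfl : m = 1 := by omega
    rw [det_one_fin hT, det_one_fin (jord_det (F := F) 1)]
    simpa using splits_scalar (ι := Fin 1) (one_ne_zero : (1 : F) ≠ 0)
  · exact splits_jord hK hγ0 hγ1 h2 T hT (hTns h2)

theorem exists_fix {ι : Type*} [Fintype ι] [DecidableEq ι] {B X : Matrix ι ι F} (hB : Good B)
    (h : Sim X B) : ∃ V W : Matrix ι ι F, V * W = 1 ∧ V.det = 1 ∧ X = V * B * W := by
  obtain ⟨P, Q, hPQ, rfl⟩ := h
  have hPd : P.det ≠ 0 := fun h0 => by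
    have := congrArg Matrix.det hPQ
    rw [det_mul, h0, zero_mul, det_one] at this
    exact zero_ne_one this
  obtain ⟨Z, hZ, hZB⟩ := hB.2 P.det⁻¹ (inv_ne_zero hPd)
  have hZu : IsUnit Z.det := by rw [hZ]; exact isUnit_iff_ne_zero.2 (inv_ne_zero hPd)
  refine ⟨P * Z, Z⁻¹ * Q, ?_, by rw [det_mul, hZ, mul_inv_cancel₀ hPd], ?_⟩
  · rw [Matrix.mul_assoc, Matrix.mul_nonsing_inv_cancel_left _ _ hZu, hPQ]
  · rw [Matrix.mul_assoc P Z B, hZB, ← Matrix.mul_assoc P B Z,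
      Matrix.mul_assoc (P * B) Z, Matrix.mul_nonsing_inv_cancel_left _ _ hZu]

theorem exists_class [Fintype F] (hF : 9 ≤ Fintype.card F) (n : ℕ) (hn : 2 ≤ n) {G : Type*} [Group G]
    (e : G ≃* Matrix.ProjectiveSpecialLinearGroup (Fin n) F) :
    ∃ c : G, ∀ g : G, ∃ x y : G, g = (x * c * x⁻¹) * (y * c * y⁻¹) := by
  classical
  obtain ⟨m, rfl⟩ : ∃ m, n = 1 + (1 + m) := ⟨n - 2, by omega⟩
  have hK : 4 ≤ Cardinal.mk F := by
    rw [Cardinal.mk_fintype]; exact_mod_cast (by omega : 4 ≤ Fintype.card F)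
  obtain ⟨γ, -, hγ⟩ := Finset.exists_mem_notMem_of_card_lt_card (s := ({0, 1, -1} : Finset F))
    (t := Finset.univ) (lt_of_le_of_lt Finset.card_le_three (by rw [Finset.card_univ]; omega))
  simp only [Finset.mem_insert, Finset.mem_singleton, not_or] at hγ
  have hγγ : γ * γ ≠ 1 := fun h => by
    rcases mul_eq_zero.1 (show (γ - 1) * (γ + 1) = 0 by linear_combination h) with h' | h'
    exacts [hγ.2.1 (sub_eq_zero.1 h'), hγ.2.2 (eq_neg_of_add_eq_zero_left h')]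
  let c : Matrix.SpecialLinearGroup (Fin (1 + (1 + m))) F := ⟨slB γ m, slB_det hγ.1 m⟩
  have hconj : ∀ X : Matrix (Fin (1 + (1 + m))) (Fin (1 + (1 + m))) F, Sim X (slB γ m) →
      ∃ k : Matrix.SpecialLinearGroup (Fin (1 + (1 + m))) F, X = (k * c * k⁻¹).1 := by
    intro X hX
    obtain ⟨V, W, hVW, hV, rfl⟩ := exists_fix (slB_good hγ.1 m) hX
    refine ⟨⟨V, hV⟩, ?_⟩
    have hW : W = Matrix.adjugate V := by
      have h1 : V * Matrix.adjugate V = 1 := by rw [mul_adjugate, hV, one_smul]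
      exact left_inv_eq_right_inv (mul_eq_one_comm.1 hVW) h1
    rw [hW]
    rfl
  refine exists_of_center_quotient e c ?_ ?_
  · obtain ⟨k, hk⟩ := hconj _ (slB_real hγ.1 m)
    refine ⟨k, Subtype.ext (hk.symm.trans ?_)⟩
    rw [Matrix.SpecialLinearGroup.coe_inv, Matrix.inv_def]
    simp [c, slB_det hγ.1 m]
  · intro g hg
    obtain ⟨L, U, B', hB', hL, hU, hLU⟩ := splits_slB hK hγ.1 hγγ g.1 g.2 fun a ha => hg (by
      rw [Subgroup.mem_center_iff]
      intro x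
      apply Subtype.ext
      simp [ha])
    obtain ⟨x, hx⟩ := hconj L hL
    obtain ⟨y, hy⟩ := hconj U (hU.trans (by
      rw [← Matrix.inv_eq_right_inv hB']; exact slB_real hγ.1 m))
    exact ⟨x, y, Subtype.ext (by rw [hLU, hx, hy]; rfl)⟩

end Cfsg.Agent.ClassSquareGauss.Linear
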