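import Cfsg.Agent.Lib.ClassSquareGauss.Core

/-!
# Small rank perturbations of a Levi factor
-/

set_option autoImplicit false

namespace Cfsg.Agent.ClassSquareGauss

open Matrix

variable {F : Type*} [Field F] {ι : Type*} [Fintype ι] [DecidableEq ι]

theorem one_add_rank_one_mulVec (v w x : ι → F) :
    (1 + vecMulVec v w) *ᵥ x = x + (w ⬝ᵥ x) • v := by
  rw [Matrix.add_mulVec, Matrix.one_mulVec, Matrix.vecMulVec_mulVec]
  funext i
  simp [mul_comm]

theorem det_rank_one (v w : ι → F) : (1 + vecMulVec v w).det = 1 + w ⬝ᵥ v := by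
  rw [vecMulVec_eq Unit]
  exact det_one_add_replicateCol_mul_replicateRow v w

theorem ns_rank_one {A : Matrix ι ι F} {v : ι → F} (hv : ∀ a : F, A *ᵥ v ≠ a • v) (w : ι → F) :
    ∀ a : F, (1 + vecMulVec v w) * A ≠ a • 1 := by
  intro a h
  have h1 := congrArg (fun M : Matrix ι ι F => M *ᵥ v) h
  simp only [← Matrix.mulVec_mulVec, Matrix.smul_mulVec, Matrix.one_mulVec,
    one_add_rank_one_mulVec] at h1
  refine hv (a - w ⬝ᵥ (A *ᵥ v)) ?_
  rw [sub_smul, ← h1, add_sub_cancel_right]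

theorem ns_rank_two {A : Matrix ι ι F} {u v : ι → F} (hu : ∀ s t : F, A *ᵥ u ≠ s • u + t • v)
    (w w' : ι → F) : ∀ a : F, (1 + (vecMulVec u w + vecMulVec v w')) * A ≠ a • 1 := by
  intro a h
  have h1 := congrArg (fun M : Matrix ι ι F => M *ᵥ u) h
  simp only [← Matrix.mulVec_mulVec, Matrix.smul_mulVec, Matrix.one_mulVec, Matrix.add_mulVec,
    Matrix.vecMulVec_mulVec] at h1
  refine hu (a - w ⬝ᵥ (A *ᵥ u)) (-(w' ⬝ᵥ (A *ᵥ u))) ?_
  have e : ∀ (x : ι → F) (r : F), MulOpposite.op r • x = r • x := fun x r => by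
    funext i; simp [mul_comm]
  rw [e, e] at h1
  rw [sub_smul, ← h1, neg_smul]
  abel

/-- a rank one perturbation of the identity is not a scalar -/
theorem ns_one_rank_one (h2 : 2 ≤ Fintype.card ι) {v w : ι → F} (hvw : w ⬝ᵥ v ≠ 0) :
    ∀ a : F, (1 + vecMulVec v w) ≠ a • 1 := by
  intro a h
  obtain ⟨z, hz, hwz⟩ : ∃ z : ι → F, z ≠ 0 ∧ w ⬝ᵥ z = 0 := by
    obtain ⟨i, j, hij⟩ := Fintype.one_lt_card_iff.1 (by omega : 1 < Fintype.card ι)
    by_cases hi : w i = 0
    · exact ⟨Pi.single i 1, by simp, by simp [hi]⟩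
    · refine ⟨Pi.single i (w j) - Pi.single j (w i), fun h0 => hi ?_, by
        simp [dotProduct_sub, mul_comm]⟩
      have := congrFun h0 j
      simpa [hij] using this
  have h1 := congrArg (fun M : Matrix ι ι F => M *ᵥ z) h
  have h2' := congrArg (fun M : Matrix ι ι F => M *ᵥ v) h
  simp only [one_add_rank_one_mulVec, hwz, zero_smul, add_zero, Matrix.smul_mulVec,
    Matrix.one_mulVec] at h1 h2'
  have ha : a = 1 := by
    obtain ⟨i, hi⟩ := Function.ne_iff.1 hz
    have := congrFun h1 i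
    rw [Pi.smul_apply, smul_eq_mul] at this
    exact mul_right_cancel₀ hi (this.symm.trans (one_mul _).symm)
  rw [ha, one_smul, add_eq_left, smul_eq_zero] at h2'
  refine h2'.elim hvw fun hv => hvw (by rw [hv, dotProduct_zero])

theorem vecMulVec_mul' (v w : ι → F) (M : Matrix ι ι F) :
    vecMulVec v w * M = vecMulVec v (w ᵥ* M) := Matrix.vecMulVec_mul v w M

end Cfsg.Agent.ClassSquareGauss
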