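import Cfsg.Agent.Lib.ClassSquareGauss.Plus

/-!
# A class of `PΩ_{2m+1}(F)` whose square is everything

Vectors are triples `tr z x y` with value `z² + x ⬝ᵥ y`.
-/

set_option autoImplicit false
set_option linter.unusedSectionVars false

namespace Cfsg.Agent.ClassSquareGauss.Odd

open Matrix
open Cfsg.Agent.Forms Cfsg.Agent.Forms.QuadStd Cfsg.Agent.Forms.Reflections
open Cfsg.Agent.Forms.PlusStd Cfsg.Agent.Classical.OmegaCrit
open Cfsg.Agent.Classical.OrthForms Cfsg.Agent.Classical.OmegaPlus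

variable {F : Type*} [Field F] {m : ℕ}

local notation "Mat" => Matrix (Fin m) (Fin m) F
local notation "Vec" => Fin m → F
local notation "VV" => Unit ⊕ (Fin m ⊕ Fin m) → F
set_option quotPrecheck false in
local notation "OO" => Cfsg.isometryGroup F ⇑(oddQ F m)
set_option quotPrecheck false in
local notation "GG" => Cfsg.Omega F ⇑(oddQ F m)

/-- a triple -/
def tr (z : F) (x y : Fin m → F) : Unit ⊕ (Fin m ⊕ Fin m) → F :=
  Sum.elim (fun _ => z) (Sum.elim x y)

/-- first coordinate -/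
def pz : (Unit ⊕ (Fin m ⊕ Fin m) → F) →ₗ[F] F := LinearMap.proj (Sum.inl ())

/-- middle coordinates -/
def px : (Unit ⊕ (Fin m ⊕ Fin m) → F) →ₗ[F] (Fin m → F) :=
  LinearMap.funLeft F F (fun i => Sum.inr (Sum.inl i))

/-- last coordinates -/
def py : (Unit ⊕ (Fin m ⊕ Fin m) → F) →ₗ[F] (Fin m → F) :=
  LinearMap.funLeft F F (fun i => Sum.inr (Sum.inr i))

@[simp] theorem pz_tr (z : F) (x y : Vec) : pz (tr z x y) = z := rfl
@[simp] theorem px_tr (z : F) (x y : Vec) : px (tr z x y) = x := rfl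
@[simp] theorem py_tr (z : F) (x y : Vec) : py (tr z x y) = y := rfl

theorem tr_eta (v : VV) : tr (pz v) (px v) (py v) = v := by
  funext i; rcases i with i | i | i <;> rfl

theorem tr_inj {z z' : F} {x x' y y' : Vec} (h : tr z x y = tr z' x' y') :
    z = z' ∧ x = x' ∧ y = y' :=
  ⟨congrArg pz h, congrArg px h, congrArg py h⟩

theorem tr_add (z z' : F) (x x' y y' : Vec) :
    tr z x y + tr z' x' y' = tr (z + z') (x + x') (y + y') := by
  funext i; rcases i with i | i | i <;> rfl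

theorem qtr (z : F) (x y : Vec) : oddQ F m (tr z x y) = z * z + x ⬝ᵥ y := by
  rw [oddQ_apply, plusQ_apply, sq]; rfl

theorem qval (v : VV) : oddQ F m v = pz v * pz v + px v ⬝ᵥ py v := by
  conv_lhs => rw [← tr_eta v]
  rw [qtr]

theorem polar_tr (z z' : F) (x x' y y' : Vec) :
    QuadraticMap.polar (oddQ F m) (tr z x y) (tr z' x' y') = 2 * z * z' + x ⬝ᵥ y' + x' ⬝ᵥ y := by
  simp only [QuadraticMap.polar, tr_add, qtr, dotProduct_add, add_dotProduct]
  ring

theorem ext3 {g h : OO} (e : ∀ z x y, act g (tr z x y) = act h (tr z x y)) : g = h :=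
  iso_ext fun v => by
    rw [← tr_eta v]
    simpa [act_apply] using e (pz v) (px v) (py v)

theorem vmv (u w x : Fin m → F) : vecMulVec u w *ᵥ x = (w ⬝ᵥ x) • u := by
  rw [Matrix.vecMulVec_mulVec]
  funext i
  simp [mul_comm]

/-- lower unipotent map -/
def loF (a : Fin m → F) (R : Matrix (Fin m) (Fin m) F) :
    (Unit ⊕ (Fin m ⊕ Fin m) → F) →ₗ[F] (Unit ⊕ (Fin m ⊕ Fin m) → F) where
  toFun v := tr (pz v + a ⬝ᵥ px v) (px v)
    (py v - (2 * pz v) • a + (R - vecMulVec a a) *ᵥ px v)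
  map_add' u v := by
    rw [tr_add]
    simp only [map_add, dotProduct_add, mulVec_add]
    congr 1
    · ring
    · module
  map_smul' c v := by
    funext i
    rcases i with i | i | i <;> simp [tr, mulVec_smul, dotProduct_smul]
    · ring
    · ring

theorem loF_comp (a b : Vec) (R R' : Mat) (v : VV) :
    loF a R (loF b R' v) = loF (a + b) (R + R' + alt2 b a) v := by
  simp only [loF, LinearMap.coe_mk, AddHom.coe_mk, pz_tr, px_tr, py_tr]
  congr 1
  · rw [add_dotProduct]; ring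
  · simp only [sub_mulVec, add_mulVec, alt2, vmv, add_dotProduct, add_vecMulVec,
      vecMulVec_add]
    funext i
    simp
    ring

theorem loF_zero (v : VV) : loF 0 0 v = v := by
  conv_rhs => rw [← tr_eta v]
  simp [loF]

/-- upper unipotent map -/
def upF (a : Fin m → F) (R : Matrix (Fin m) (Fin m) F) :
    (Unit ⊕ (Fin m ⊕ Fin m) → F) →ₗ[F] (Unit ⊕ (Fin m ⊕ Fin m) → F) where
  toFun v := tr (pz v + a ⬝ᵥ py v)
    (px v - (2 * pz v) • a + (R - vecMulVec a a) *ᵥ py v) (py v)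
  map_add' u v := by
    rw [tr_add]
    simp only [map_add, dotProduct_add, mulVec_add]
    congr 1
    · ring
    · module
  map_smul' c v := by
    funext i
    rcases i with i | i | i <;> simp [tr, mulVec_smul, dotProduct_smul]
    · ring
    · ring

theorem upF_comp (a b : Vec) (R R' : Mat) (v : VV) :
    upF a R (upF b R' v) = upF (a + b) (R + R' + alt2 b a) v := by
  simp only [upF, LinearMap.coe_mk, AddHom.coe_mk, pz_tr, px_tr, py_tr]
  congr 1
  · rw [add_dotProduct]; ring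
  · simp only [sub_mulVec, add_mulVec, alt2, vmv, add_dotProduct, add_vecMulVec,
      vecMulVec_add]
    funext i
    simp
    ring

theorem upF_zero (v : VV) : upF 0 0 v = v := by
  conv_rhs => rw [← tr_eta v]
  simp [upF]

theorem alt2_self (a : Vec) : alt2 a a = 0 := by simp [alt2]

theorem alt2_neg_self (a : Vec) : alt2 (-a) a = 0 := by simp [alt2, neg_vecMulVec, vecMulVec_neg]

theorem alt2_self_neg (a : Vec) : alt2 a (-a) = 0 := by simp [alt2, neg_vecMulVec, vecMulVec_neg]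

theorem isAlt_iff {R : Mat} (hR : IsAlt R) (a x : Vec) :
    x ⬝ᵥ ((R - vecMulVec a a) *ᵥ x) = -((a ⬝ᵥ x) * (a ⬝ᵥ x)) := by
  rw [sub_mulVec, dotProduct_sub, hR, vmv, zero_sub]
  simp [dotProduct_comm x a, mul_comm]

/-- lower unipotent -/
noncomputable def lo (a : Fin m → F) (R : Matrix (Fin m) (Fin m) F) (hR : IsAlt R) :
    Cfsg.isometryGroup F ⇑(oddQ F m) :=
  isoOfEquiv _ (LinearEquiv.ofLinear (loF a R) (loF (-a) (-R))
    (LinearMap.ext fun v => by simp [loF_comp, alt2_neg_self, loF_zero])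
    (LinearMap.ext fun v => by simp [loF_comp, alt2_self_neg, loF_zero])) fun v => by
    show oddQ F m (loF a R v) = oddQ F m v
    simp only [loF, LinearMap.coe_mk, AddHom.coe_mk, qtr]
    rw [qval, dotProduct_add, isAlt_iff hR, dotProduct_sub, dotProduct_smul, smul_eq_mul,
      dotProduct_comm (px v) a]
    ring

/-- upper unipotent -/
noncomputable def up (a : Fin m → F) (R : Matrix (Fin m) (Fin m) F) (hR : IsAlt R) :
    Cfsg.isometryGroup F ⇑(oddQ F m) :=
  isoOfEquiv _ (LinearEquiv.ofLinear (upF a R) (upF (-a) (-R))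
    (LinearMap.ext fun v => by simp [upF_comp, alt2_neg_self, upF_zero])
    (LinearMap.ext fun v => by simp [upF_comp, alt2_self_neg, upF_zero])) fun v => by
    show oddQ F m (upF a R v) = oddQ F m v
    simp only [upF, LinearMap.coe_mk, AddHom.coe_mk, qtr]
    rw [qval, add_dotProduct, dotProduct_comm ((R - vecMulVec a a) *ᵥ py v), isAlt_iff hR,
      sub_dotProduct, smul_dotProduct, smul_eq_mul]
    ring

theorem act_lo (a : Vec) (R : Mat) (hR : IsAlt R) (z : F) (x y : Vec) :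
    act (lo a R hR) (tr z x y) =
      tr (z + a ⬝ᵥ x) x (y - (2 * z) • a + (R - vecMulVec a a) *ᵥ x) := by
  rw [act_apply, lo, isoOfEquiv_mulVec]; rfl

theorem act_up (a : Vec) (R : Mat) (hR : IsAlt R) (z : F) (x y : Vec) :
    act (up a R hR) (tr z x y) =
      tr (z + a ⬝ᵥ y) (x - (2 * z) • a + (R - vecMulVec a a) *ᵥ y) y := by
  rw [act_apply, up, isoOfEquiv_mulVec]; rfl

theorem lo_mul (a b : Vec) (R R' : Mat) (hR : IsAlt R) (hR' : IsAlt R') :
    lo a R hR * lo b R' hR' =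
      lo (a + b) (R + R' + alt2 b a) ((hR.add hR').add (isAlt_alt2 b a)) :=
  iso_ext fun v => by
    rw [mul_mulVec_iso]
    simp only [lo, isoOfEquiv_mulVec]
    exact loF_comp a b R R' v

theorem up_mul (a b : Vec) (R R' : Mat) (hR : IsAlt R) (hR' : IsAlt R') :
    up a R hR * up b R' hR' =
      up (a + b) (R + R' + alt2 b a) ((hR.add hR').add (isAlt_alt2 b a)) :=
  iso_ext fun v => by
    rw [mul_mulVec_iso]
    simp only [up, isoOfEquiv_mulVec]
    exact upF_comp a b R R' v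

theorem lo_zero : lo (0 : Vec) (0 : Mat) IsAlt.zero = 1 :=
  ext3 fun z x y => by rw [act_lo, act_one]; simp

theorem up_zero : up (0 : Vec) (0 : Mat) IsAlt.zero = 1 :=
  ext3 fun z x y => by rw [act_up, act_one]; simp

theorem lo_congr {a a' : Vec} {R R' : Mat} {hR : IsAlt R} {hR' : IsAlt R'} (h1 : a = a')
    (h2 : R = R') : lo a R hR = lo a' R' hR' := by subst h1 h2; rfl

theorem up_congr {a a' : Vec} {R R' : Mat} {hR : IsAlt R} {hR' : IsAlt R'} (h1 : a = a')
    (h2 : R = R') : up a R hR = up a' R' hR' := by subst h1 h2; rfl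

theorem lo_inv (a : Vec) (R : Mat) (hR : IsAlt R) : (lo a R hR)⁻¹ = lo (-a) (-R) hR.neg :=
  inv_eq_of_mul_eq_one_right (by
    rw [lo_mul, ← lo_zero]
    exact lo_congr (add_neg_cancel a) (by simp [alt2_neg_self]))

theorem up_inv (a : Vec) (R : Mat) (hR : IsAlt R) : (up a R hR)⁻¹ = up (-a) (-R) hR.neg :=
  inv_eq_of_mul_eq_one_right (by
    rw [up_mul, ← up_zero]
    exact up_congr (add_neg_cancel a) (by simp [alt2_neg_self]))

/-- extension of an isometry of the plus form -/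
noncomputable def psi : Cfsg.isometryGroup F ⇑(plusQ F m) →* Cfsg.isometryGroup F ⇑(oddQ F m) where
  toFun g := ⟨⟨fromBlocks 1 0 0 (Plus.mat g), fromBlocks 1 0 0 (Plus.mat g⁻¹),
    by rw [fromBlocks_multiply, ← Plus.mat_mul, mul_inv_cancel, Plus.mat_one]
       simp [fromBlocks_one],
    by rw [fromBlocks_multiply, ← Plus.mat_mul, inv_mul_cancel, Plus.mat_one]
       simp [fromBlocks_one]⟩, fun v _ => by
    show oddQ F m (fromBlocks 1 0 0 (Plus.mat g) *ᵥ v) = oddQ F m v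
    rw [oddQ_apply, oddQ_apply, fromBlocks_mulVec]
    simp [Plus.mat_preserves]⟩
  map_one' := Subtype.ext (Units.ext (by
    show fromBlocks 1 0 0 (Plus.mat 1) = 1
    rw [Plus.mat_one, fromBlocks_one]))
  map_mul' g h := Subtype.ext (Units.ext (by
    show fromBlocks 1 0 0 (Plus.mat (g * h)) =
      fromBlocks 1 0 0 (Plus.mat g) * fromBlocks 1 0 0 (Plus.mat h)
    rw [fromBlocks_multiply, Plus.mat_mul]
    simp))

theorem act_psi (g : Cfsg.isometryGroup F ⇑(plusQ F m)) (z : F) (x y : Vec) :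
    act (psi g) (tr z x y) = tr z (act g (Sum.elim x y) ∘ Sum.inl) (act g (Sum.elim x y) ∘ Sum.inr) := by
  rw [act_apply]
  show fromBlocks 1 0 0 (Plus.mat g) *ᵥ tr z x y = _
  rw [fromBlocks_mulVec]
  funext i
  rcases i with i | i | i <;> simp [tr, act_apply, Plus.mat]

/-- the Levi element -/
noncomputable def levi3 : GL (Fin m) F →* Cfsg.isometryGroup F ⇑(oddQ F m) :=
  psi.comp leviIso

theorem act_levi3 (X : GL (Fin m) F) (z : F) (x y : Vec) :
    act (levi3 X) (tr z x y) = tr z ((X : Mat) *ᵥ x) (((X : Mat)⁻¹)ᵀ *ᵥ y) := by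
  show act (psi (leviIso X)) _ = _
  rw [act_psi, act_levi]
  simp [Sum.elim_comp_inl, Sum.elim_comp_inr]

theorem isUnit_det (X : GL (Fin m) F) : IsUnit (X : Mat).det := X.isUnit.map Matrix.detMonoidHom

theorem levi_conj_lo (X : GL (Fin m) F) (a : Vec) (R : Mat) (hR : IsAlt R) :
    levi3 X * lo a R hR * (levi3 X)⁻¹ =
      lo (a ᵥ* (X : Mat)⁻¹) (((X : Mat)⁻¹)ᵀ * R * (X : Mat)⁻¹) (hR.congr _) := by
  rw [mul_inv_eq_iff_eq_mul]
  refine ext3 fun z x y => ?_
  rw [act_mul, act_mul, act_lo, act_levi3, act_levi3, act_lo]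
  rw [← dotProduct_mulVec, mulVec_mulVec, Matrix.nonsing_inv_mul _ (isUnit_det X), one_mulVec]
  congr 1
  have hXi : ∀ w, (X : Mat)⁻¹ *ᵥ ((X : Mat) *ᵥ w) = w := fun w => by
    rw [mulVec_mulVec, Matrix.nonsing_inv_mul _ (isUnit_det X), one_mulVec]
  simp only [sub_mulVec, mulVec_add, mulVec_sub, mulVec_smul, vmv, ← mulVec_mulVec, hXi,
    ← dotProduct_mulVec]
  rw [← mulVec_transpose]

theorem levi_conj_up (X : GL (Fin m) F) (a : Vec) (R : Mat) (hR : IsAlt R) :
    levi3 X * up a R hR * (levi3 X)⁻¹ =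
      up ((X : Mat) *ᵥ a) ((X : Mat) * R * (X : Mat)ᵀ) (hR.congr' _) := by
  rw [mul_inv_eq_iff_eq_mul]
  refine ext3 fun z x y => ?_
  rw [act_mul, act_mul, act_up, act_levi3, act_levi3, act_up]
  have e : (X : Mat)ᵀ *ᵥ (((X : Mat)⁻¹)ᵀ *ᵥ y) = y := by
    rw [mulVec_mulVec, ← transpose_mul, Matrix.nonsing_inv_mul _ (isUnit_det X), transpose_one,
      one_mulVec]
  have e' : ((X : Mat) *ᵥ a) ⬝ᵥ (((X : Mat)⁻¹)ᵀ *ᵥ y) = a ⬝ᵥ y := by
    rw [← vecMul_transpose, ← dotProduct_mulVec, e]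
  congr 1
  · rw [e']
  · simp only [sub_mulVec, mulVec_add, mulVec_sub, mulVec_smul, vmv, e']
    rw [← mulVec_mulVec _ ((X : Mat) * R), e, mulVec_mulVec]

variable [Fintype F]

theorem exists_scalar (h2 : (2 : F) ≠ 0) (hq : 5 ≤ Fintype.card F) :
    ∃ t : Fˣ, (t : F) - 1 ≠ 0 ∧ (t : F) * t - 1 ≠ 0 ∧ ((t⁻¹ : Fˣ) : F) - 1 ≠ 0 ∧
      ((t⁻¹ : Fˣ) : F) * (t⁻¹ : Fˣ) - 1 ≠ 0 := by
  obtain ⟨t, h1, h2'⟩ := Plus.exists_scalar (F := F) (by omega)
  refine ⟨t, ?_, h1, ?_, h2'⟩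
  · intro h; exact h1 (by rw [sub_eq_zero.1 h]; ring)
  · intro h; exact h2' (by rw [sub_eq_zero.1 h]; ring)

theorem lo_scal (t : Fˣ) (a : Vec) (R : Mat) (hR : IsAlt R) :
    levi3 (Plus.scal m t) * lo a R hR * (levi3 (Plus.scal m t))⁻¹ =
      lo (((t⁻¹ : Fˣ) : F) • a) ((((t⁻¹ : Fˣ) : F) * (t⁻¹ : Fˣ)) • R) (hR.smul _) := by
  rw [levi_conj_lo]
  refine lo_congr ?_ ?_
  · rw [Plus.scal_inv, Matrix.vecMul_smul, vecMul_one]
  · simp [Plus.scal_inv, smul_smul]

theorem up_scal (t : Fˣ) (a : Vec) (R : Mat) (hR : IsAlt R) :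
    levi3 (Plus.scal m t) * up a R hR * (levi3 (Plus.scal m t))⁻¹ =
      up ((t : F) • a) (((t : F) * t) • R) (hR.smul _) := by
  rw [levi_conj_up]
  refine up_congr ?_ ?_
  · rw [Plus.scal_val, smul_mulVec, one_mulVec]
  · simp [Plus.scal_val, smul_smul]

theorem lo_mem (h2 : (2 : F) ≠ 0) (hq : 5 ≤ Fintype.card F) (a : Vec) (R : Mat) (hR : IsAlt R) :
    lo a R hR ∈ GG := by
  obtain ⟨t, -, -, e1, e2⟩ := exists_scalar h2 hq
  set s : F := ((t⁻¹ : Fˣ) : F)
  have h : lo a R hR = levi3 (Plus.scal m t) * lo ((s - 1)⁻¹ • a) ((s * s - 1)⁻¹ • R) (hR.smul _) *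
      (levi3 (Plus.scal m t))⁻¹ * (lo ((s - 1)⁻¹ • a) ((s * s - 1)⁻¹ • R) (hR.smul _))⁻¹ := by
    rw [lo_scal, lo_inv, lo_mul]
    refine lo_congr ?_ ?_
    · rw [smul_smul, ← sub_eq_add_neg, ← sub_smul, ← sub_one_mul, mul_inv_cancel₀ e1, one_smul]
    · rw [show alt2 (-((s - 1)⁻¹ • a)) (s • (s - 1)⁻¹ • a) = 0 by
          ext i j; simp [alt2, vecMulVec_apply]; ring,
        add_zero, smul_smul, ← sub_eq_add_neg, ← sub_smul, ← sub_one_mul, mul_inv_cancel₀ e2,
        one_smul]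
  rw [h]
  exact Subgroup.commutator_mem_commutator (Subgroup.mem_top _) (Subgroup.mem_top _)

theorem up_mem (h2 : (2 : F) ≠ 0) (hq : 5 ≤ Fintype.card F) (a : Vec) (R : Mat) (hR : IsAlt R) :
    up a R hR ∈ GG := by
  obtain ⟨t, e1, e2, -, -⟩ := exists_scalar h2 hq
  set s : F := (t : F)
  have h : up a R hR = levi3 (Plus.scal m t) * up ((s - 1)⁻¹ • a) ((s * s - 1)⁻¹ • R) (hR.smul _) *
      (levi3 (Plus.scal m t))⁻¹ * (up ((s - 1)⁻¹ • a) ((s * s - 1)⁻¹ • R) (hR.smul _))⁻¹ := by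
    rw [up_scal, up_inv, up_mul]
    refine up_congr ?_ ?_
    · rw [smul_smul, ← sub_eq_add_neg, ← sub_smul, ← sub_one_mul, mul_inv_cancel₀ e1, one_smul]
    · rw [show alt2 (-((s - 1)⁻¹ • a)) (s • (s - 1)⁻¹ • a) = 0 by
          ext i j; simp [alt2, vecMulVec_apply]; ring,
        add_zero, smul_smul, ← sub_eq_add_neg, ← sub_smul, ← sub_one_mul, mul_inv_cancel₀ e2,
        one_smul]
  rw [h]
  exact Subgroup.commutator_mem_commutator (Subgroup.mem_top _) (Subgroup.mem_top _)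

theorem nonde (hq : 5 ≤ Fintype.card F) :
    Fintype.card F ≠ 2 ∨ Fintype.card (Unit ⊕ (Fin m ⊕ Fin m)) ≠ 4 := Or.inl (by omega)

theorem theta_psi (h2 : (2 : F) ≠ 0) (hq : 5 ≤ Fintype.card F)
    (g : Cfsg.isometryGroup F ⇑(plusQ F m)) :
    theta (oddQ_nondeg h2 m) (nonde hq) (psi g) =
      theta (plusQ_nondeg F m) (Plus.nonde (by omega)) g := by
  refine theta_map (plusQ_nondeg F m) (Plus.nonde (by omega)) (oddQ_nondeg h2 m) (nonde hq) psi
    (fun v => Sum.elim (fun _ => (0 : F)) v) (fun v => by rw [oddQ_apply]; simp) (fun v hv => ?_) g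
  refine ext3 fun z x y => ?_
  rw [act_psi, act_reflect, act_reflect]
  have e : (Sum.elim (fun _ => (0 : F)) v : VV) = tr 0 (v ∘ Sum.inl) (v ∘ Sum.inr) := by
    funext i; rcases i with i | i | i <;> rfl
  have e1 : oddQ F m (Sum.elim (fun _ => (0 : F)) v) = plusQ F m v := by rw [oddQ_apply]; simp
  have e2 : QuadraticMap.polar (oddQ F m) (Sum.elim (fun _ => (0 : F)) v) (tr z x y) =
      QuadraticMap.polar (plusQ F m) v (Sum.elim x y) := by
    rw [oddQ_polar]; simp [tr, Sum.elim_comp_inr]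
  rw [e1, e2, e]
  funext i
  rcases i with i | i | i <;> simp [tr]

theorem levi_mem_iff (h2 : (2 : F) ≠ 0) (hq : 5 ≤ Fintype.card F) (X : GL (Fin m) F) :
    levi3 X ∈ GG ↔ IsSquare (X : Mat).det := by
  rw [mem_omega_iff (oddQ_nondeg h2 m) (nonde hq)]
  show theta _ _ (psi (leviIso X)) = 1 ↔ _
  rw [theta_psi h2 hq, theta_levi, Prod.mk_eq_one, chi_eq_one_iff]
  simp

/-- the Levi subgroup of `Ω` -/
noncomputable def LG (h2 : (2 : F) ≠ 0) (hq : 5 ≤ Fintype.card F) :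
    Plus.HH F m →* Cfsg.Omega F ⇑(oddQ F m) :=
  ((levi3 (F := F) (m := m)).comp (Plus.HH F m).subtype).codRestrict _
    fun P => (levi_mem_iff h2 hq _).2 (Plus.mem_HH.1 P.2)

theorem LG_val (h2 : (2 : F) ≠ 0) (hq : 5 ≤ Fintype.card F) (P : Plus.HH F m) :
    ((LG h2 hq P : GG) : OO) = levi3 (P : GL (Fin m) F) := rfl

/-- the lower radical -/
def LoG (F : Type*) [Field F] (m : ℕ) : Subgroup (Cfsg.Omega F ⇑(oddQ F m)) where
  carrier := {g | ∃ (a : Fin m → F) (R : Matrix (Fin m) (Fin m) F) (hR : IsAlt R), g.1 = lo a R hR}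
  one_mem' := ⟨0, 0, IsAlt.zero, lo_zero.symm⟩
  mul_mem' := by
    rintro x y ⟨a, R, hR, hx⟩ ⟨b, R', hR', hy⟩
    exact ⟨_, _, _, by rw [Subgroup.coe_mul, hx, hy, lo_mul]⟩
  inv_mem' := by
    rintro x ⟨a, R, hR, hx⟩
    exact ⟨_, _, _, by rw [Subgroup.coe_inv, hx, lo_inv]⟩

/-- the upper radical -/
def UpG (F : Type*) [Field F] (m : ℕ) : Subgroup (Cfsg.Omega F ⇑(oddQ F m)) where
  carrier := {g | ∃ (a : Fin m → F) (R : Matrix (Fin m) (Fin m) F) (hR : IsAlt R), g.1 = up a R hR}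
  one_mem' := ⟨0, 0, IsAlt.zero, up_zero.symm⟩
  mul_mem' := by
    rintro x y ⟨a, R, hR, hx⟩ ⟨b, R', hR', hy⟩
    exact ⟨_, _, _, by rw [Subgroup.coe_mul, hx, hy, up_mul]⟩
  inv_mem' := by
    rintro x ⟨a, R, hR, hx⟩
    exact ⟨_, _, _, by rw [Subgroup.coe_inv, hx, up_inv]⟩

/-! ### Columns -/

theorem exists_colX (g : OO) : ∃ (p : Vec) (A C : Mat),
    ∀ x, act g (tr 0 x 0) = tr (p ⬝ᵥ x) (A *ᵥ x) (C *ᵥ x) := by
  classical
  let emb : (Fin m → F) →ₗ[F] VV :=
    { toFun := fun x => tr 0 x 0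
      map_add' := fun x y => by simp [tr_add]
      map_smul' := fun c x => by funext i; rcases i with i | i | i <;> simp [tr] }
  let L := (act g).comp emb
  refine ⟨fun j => pz (L (Pi.single j 1)), LinearMap.toMatrix' (px.comp L),
    LinearMap.toMatrix' (py.comp L), fun x => ?_⟩
  have e1 : (fun j => pz (L (Pi.single j 1))) ⬝ᵥ x = pz (L x) := by
    conv_rhs => rw [pi_eq_sum_univ' x, map_sum, map_sum]
    simp [dotProduct, mul_comm]
  rw [e1, LinearMap.toMatrix'_mulVec, LinearMap.toMatrix'_mulVec]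
  exact (tr_eta _).symm

theorem exists_colY (g : OO) : ∃ (r : Vec) (B D : Mat),
    ∀ y, act g (tr 0 0 y) = tr (r ⬝ᵥ y) (B *ᵥ y) (D *ᵥ y) := by
  classical
  let emb : (Fin m → F) →ₗ[F] VV :=
    { toFun := fun y => tr 0 0 y
      map_add' := fun x y => by simp [tr_add]
      map_smul' := fun c x => by funext i; rcases i with i | i | i <;> simp [tr] }
  let L := (act g).comp emb
  refine ⟨fun j => pz (L (Pi.single j 1)), LinearMap.toMatrix' (px.comp L),
    LinearMap.toMatrix' (py.comp L), fun x => ?_⟩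
  have e1 : (fun j => pz (L (Pi.single j 1))) ⬝ᵥ x = pz (L x) := by
    conv_rhs => rw [pi_eq_sum_univ' x, map_sum, map_sum]
    simp [dotProduct, mul_comm]
  rw [e1, LinearMap.toMatrix'_mulVec, LinearMap.toMatrix'_mulVec]
  exact (tr_eta _).symm

/-- reflection in the anisotropic coordinate -/
noncomputable def r0 (F : Type*) [Field F] (m : ℕ) : Cfsg.isometryGroup F ⇑(oddQ F m) :=
  reflect (oddQ F m) (tr 1 0 0)

theorem act_r0 (h2 : (2 : F) ≠ 0) (z : F) (x y : Vec) : act (r0 F m) (tr z x y) = tr (-z) x y := by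
  rw [r0, act_reflect, qtr, polar_tr]
  funext i
  rcases i with i | i | i <;> simp [tr]
  ring

theorem theta_r0 (h2 : (2 : F) ≠ 0) (hq : 5 ≤ Fintype.card F) :
    theta (oddQ_nondeg h2 m) (nonde hq) (r0 F m) = (-1, 1) := by
  rw [r0, theta_reflect _ _ (by rw [qtr]; simp), qtr]
  simp [chi_one]

theorem exists_decomp (h2 : (2 : F) ≠ 0) (hq : 5 ≤ Fintype.card F) {g : OO} (hg : g ∈ GG)
    {p : Vec} {A C : Mat} (hv : ∀ x, act g (tr 0 x 0) = tr (p ⬝ᵥ x) (A *ᵥ x) (C *ᵥ x))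
    (hA : A.det ≠ 0) :
    ∃ (X : GL (Fin m) F) (a b : Vec) (R R' : Mat) (hR : IsAlt R) (hR' : IsAlt R'),
      (X : Mat) = A ∧ p = a ᵥ* A ∧ C = (R - vecMulVec a a) * A ∧ IsSquare A.det ∧
      g = lo a R hR * levi3 X * up b R' hR' := by
  let X : GL (Fin m) F := GeneralLinearGroup.mkOfDetNeZero A hA
  have hu : IsUnit A.det := isUnit_iff_ne_zero.2 hA
  set a := p ᵥ* A⁻¹ with ha
  have hpa : p = a ᵥ* A := by rw [ha, vecMul_vecMul, Matrix.nonsing_inv_mul _ hu, vecMul_one]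
  set R := C * A⁻¹ + vecMulVec a a with hRdef
  have hR : IsAlt R := fun x => by
    have h := act_map g (tr 0 (A⁻¹ *ᵥ x) 0)
    rw [hv, qtr, qtr, mulVec_mulVec, Matrix.mul_nonsing_inv _ hu, one_mulVec, dotProduct_zero] at h
    simp only [mulVec_mulVec] at h
    have e : a ⬝ᵥ x = p ⬝ᵥ (A⁻¹ *ᵥ x) := by rw [ha, ← dotProduct_mulVec]
    simp only [hRdef, add_mulVec, dotProduct_add, vmv, dotProduct_smul, smul_eq_mul,
      dotProduct_comm x a, e]
    linear_combination h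
  have hC : C = (R - vecMulVec a a) * A := by
    rw [hRdef, add_sub_cancel_right, Matrix.nonsing_inv_mul_cancel_right _ _ hu]
  set k := (lo a R hR * levi3 X)⁻¹ * g with hk
  have hfix : ∀ x, act k (tr 0 x 0) = tr 0 x 0 := by
    intro x
    have h1 : act (lo a R hR * levi3 X) (tr 0 x 0) = act g (tr 0 x 0) := by
      rw [act_mul, act_levi3, act_lo, hv, mulVec_zero]
      have hX : (X : Mat) = A := rfl
      rw [hX]
      congr 1
      · rw [zero_add, dotProduct_mulVec, ← hpa]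
      · rw [hC, ← mulVec_mulVec]; simp
    rw [hk, act_mul, ← h1, Spinor.act_inv_cancel]
  obtain ⟨r, B, D, hY⟩ := exists_colY k
  obtain ⟨α, β, γ, hZ⟩ : ∃ α β γ, act k (tr 1 0 0) = tr α β γ := ⟨_, _, _, (tr_eta _).symm⟩
  have hγ : γ = 0 := by
    funext i
    have h := act_polar k (tr 1 0 0) (tr 0 (Pi.single i 1) 0)
    rw [hZ, hfix, polar_tr, polar_tr] at h
    simpa using h
  subst hγ
  have hα : α * α = 1 := by
    have h := act_map k (tr 1 0 0)
    rw [hZ, qtr, qtr] at h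
    simpa using h
  have hD : ∀ y, D *ᵥ y = y := fun y => by
    funext i
    have h := act_polar k (tr 0 (Pi.single i 1) 0) (tr 0 0 y)
    rw [hfix, hY, polar_tr, polar_tr] at h
    simpa using h
  have hβ : β = -(2 * α) • r := by
    funext i
    have h := act_polar k (tr 1 0 0) (tr 0 0 (Pi.single i 1))
    rw [hZ, hY, hD, polar_tr, polar_tr] at h
    simp at h
    simp
    linear_combination h
  have hR' : IsAlt (B + vecMulVec r r) := fun y => by
    have h := act_map k (tr 0 0 y)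
    rw [hY, hD, qtr, qtr, zero_dotProduct] at h
    rw [add_mulVec, dotProduct_add, vmv]
    simp [dotProduct_comm y r, dotProduct_comm y (B *ᵥ y)]
    linear_combination h
  have hk' : ∀ z x y, act k (tr z x y) = act (up r (B + vecMulVec r r) hR') (tr (α * z) x y) := by
    intro z x y
    have e : tr z x y = z • tr 1 0 0 + tr 0 x 0 + tr 0 0 y := by
      funext i; rcases i with i | i | i <;> simp [tr]
    rw [e, map_add, map_add, map_smul, hZ, hfix, hY, hD, act_up, hβ, add_sub_cancel_right]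
    funext i
    rcases i with i | i | i <;> simp [tr]
    · ring
    · ring
  have hlevi : theta (oddQ_nondeg h2 m) (nonde hq) (levi3 X) = (1, chi A.det) := by
    show theta _ _ (psi (leviIso X)) = _
    rw [theta_psi h2 hq, theta_levi]
    rfl
  have hθk : (theta (oddQ_nondeg h2 m) (nonde hq) k).1 = 1 := by
    rw [hk, map_mul, map_inv, map_mul, (mem_omega_iff _ _ _).1 hg,
      (mem_omega_iff _ _ _).1 (lo_mem h2 hq a R hR), hlevi]
    simp
  have hkup : k = up r (B + vecMulVec r r) hR' := by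
    rcases mul_self_eq_one_iff.1 hα with rfl | rfl
    · exact ext3 fun z x y => by rw [hk', one_mul]
    · exfalso
      have e : k = up r (B + vecMulVec r r) hR' * r0 F m :=
        ext3 fun z x y => by rw [hk', act_mul, act_r0 h2, neg_one_mul]
      rw [e, map_mul, (mem_omega_iff _ _ _).1 (up_mem h2 hq _ _ hR'), theta_r0 h2 hq, one_mul] at hθk
      exact absurd hθk (by decide)
  have hdec : g = lo a R hR * levi3 X * up r (B + vecMulVec r r) hR' := by
    rw [← hkup, hk, mul_inv_cancel_left]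
  refine ⟨X, a, r, R, B + vecMulVec r r, hR, hR', rfl, hpa, hC, ?_, hdec⟩
  have hm' : lo a R hR * levi3 X * up r (B + vecMulVec r r) hR' ∈ GG := hdec ▸ hg
  exact (levi_mem_iff h2 hq X).1 ((Subgroup.mul_mem_cancel_left _ (lo_mem h2 hq a R hR)).1
    ((Subgroup.mul_mem_cancel_right _ (up_mem h2 hq _ _ hR')).1 hm'))

theorem conj_up_col {g : OO} {p : Vec} {A C : Mat}
    (hv : ∀ x, act g (tr 0 x 0) = tr (p ⬝ᵥ x) (A *ᵥ x) (C *ᵥ x)) (a : Vec) (R : Mat) (hR : IsAlt R)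
    (x : Vec) :
    act (up a R hR * g * (up a R hR)⁻¹) (tr 0 x 0) =
      tr ((p + a ᵥ* C) ⬝ᵥ x) ((A - (2 : F) • vecMulVec a p + (R - vecMulVec a a) * C) *ᵥ x)
        (C *ᵥ x) := by
  rw [act_mul, act_mul, up_inv, act_up, dotProduct_zero, add_zero, mul_zero, zero_smul, sub_zero,
    mulVec_zero, add_zero, hv, act_up, add_dotProduct, ← dotProduct_mulVec]
  congr 1
  simp only [add_mulVec, sub_mulVec, smul_mulVec, vmv, ← mulVec_mulVec]
  funext i
  simp
  ring

theorem exists_invertible (h2 : (2 : F) ≠ 0) (hq : 5 ≤ Fintype.card F) (g : GG) :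
    ∃ (h : GG) (p : Vec) (A C : Mat), (∀ x, act (h * g * h⁻¹ : GG).1 (tr 0 x 0) =
      tr (p ⬝ᵥ x) (A *ᵥ x) (C *ᵥ x)) ∧ A.det ≠ 0 := by
  classical
  suffices H : ∀ n : ℕ, ∀ (g : GG) (p : Vec) (A C : Mat),
      (∀ x, act g.1 (tr 0 x 0) = tr (p ⬝ᵥ x) (A *ᵥ x) (C *ᵥ x)) →
      Module.finrank F (LinearMap.ker (Matrix.toLin' A)) ≤ n →
      ∃ (h : GG) (p : Vec) (A C : Mat), (∀ x, act (h * g * h⁻¹ : GG).1 (tr 0 x 0) =
        tr (p ⬝ᵥ x) (A *ᵥ x) (C *ᵥ x)) ∧ A.det ≠ 0 by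
    obtain ⟨p, A, C, hv⟩ := exists_colX g.1
    exact H _ g p A C hv le_rfl
  intro n
  induction n with
  | zero =>
    intro g p A C hv hg
    refine ⟨1, p, A, C, by simpa using hv, fun h0 => ?_⟩
    obtain ⟨x, hx0, hx⟩ := Matrix.exists_mulVec_eq_zero_iff.2 h0
    have := Submodule.finrank_eq_zero.1 (Nat.le_zero.1 hg)
    exact hx0 ((Submodule.mem_bot F).1 (this ▸ LinearMap.mem_ker.2 hx))
  | succ n ih =>
    intro g p A C hv hg
    by_cases hA : A.det ≠ 0
    · exact ⟨1, p, A, C, by simpa using hv, hA⟩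
    push Not at hA
    obtain ⟨k, hk0, hk⟩ := Matrix.exists_mulVec_eq_zero_iff.2 hA
    obtain ⟨r, B, D, hY⟩ := exists_colY g.1
    obtain ⟨α, u, w, hZ⟩ : ∃ α u w, act g.1 (tr 1 0 0) = tr α u w := ⟨_, _, _, (tr_eta _).symm⟩
    set W := LinearMap.range (Matrix.toLin' A) with hW
    obtain ⟨a0, ha0⟩ : ∃ a0 : Vec, u + B *ᵥ a0 ∉ W := by
      by_cases hu : u ∈ W
      · by_contra hall
        push Not at hall
        have hB : ∀ y, B *ᵥ y ∈ W := fun y => (add_mem_cancel_left hu).1 (hall y)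
        have hsurj : Function.Surjective (Matrix.toLin' A) := fun t => by
          obtain ⟨v, hv'⟩ : ∃ v, act g.1 v = tr 0 t 0 :=
            ⟨act (g.1)⁻¹ (tr 0 t 0), by rw [← act_mul, mul_inv_cancel, act_one]⟩
          have e : tr (pz v) (px v) (py v) =
              pz v • tr 1 0 0 + tr 0 (px v) 0 + tr 0 0 (py v) := by
            funext i; rcases i with i | i | i <;> simp [tr]
          have hmid : t = pz v • u + A *ᵥ px v + B *ᵥ py v := by
            have h1 := congrArg px hv'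
            rw [← tr_eta v, e] at h1
            simp only [map_add, map_smul, hZ, hv, hY] at h1
            simpa using h1.symm
          have : t ∈ W := hmid ▸ add_mem (add_mem (W.smul_mem _ hu) ⟨px v, rfl⟩) (hB _)
          exact this
        exact hk0 (LinearMap.injective_iff_surjective.2 hsurj (by simpa using hk))
      · exact ⟨0, by simpa using hu⟩
    obtain ⟨a, ha, hak⟩ : ∃ a : Vec, u + B *ᵥ a ∉ W ∧ a ⬝ᵥ k ≠ 0 := by
      by_cases h0 : a0 ⬝ᵥ k ≠ 0
      · exact ⟨a0, ha0, h0⟩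
      push Not at h0
      obtain ⟨i, hi⟩ := Function.ne_iff.1 hk0
      by_cases h1 : u + B *ᵥ (a0 + Pi.single i 1) ∈ W
      · refine ⟨a0 - Pi.single i 1, fun h3 => ha0 ?_, by simpa [sub_dotProduct, h0] using hi⟩
        have h4 := W.smul_mem (2 : F)⁻¹ (add_mem h1 h3)
        have e : (2 : F)⁻¹ • (u + B *ᵥ (a0 + Pi.single i 1) + (u + B *ᵥ (a0 - Pi.single i 1))) =
            u + B *ᵥ a0 := by
          rw [mulVec_add, mulVec_sub]
          funext j
          simp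
          field_simp
          ring
        rwa [e] at h4
      · exact ⟨a0 + Pi.single i 1, h1, by simpa [add_dotProduct, h0] using hi⟩
    let L : GG := ⟨lo a 0 IsAlt.zero, lo_mem h2 hq _ _ _⟩
    obtain ⟨p', A', C', hv'⟩ := exists_colX (L * g * L⁻¹ : GG).1
    have hA' : ∀ x, A' *ᵥ x = A *ᵥ x - (a ⬝ᵥ x) • (u + B *ᵥ a) := by
      intro x
      have h := hv' x
      have e1 : tr (-(a ⬝ᵥ x)) x (-((a ⬝ᵥ x) • a)) =
          (-(a ⬝ᵥ x)) • tr 1 0 0 + tr 0 x 0 + tr 0 0 (-((a ⬝ᵥ x) • a)) := by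
        funext i; rcases i with i | i | i <;> simp [tr]
      have e2 : act ((lo a 0 IsAlt.zero)⁻¹) (tr 0 x 0) = tr (-(a ⬝ᵥ x)) x (-((a ⬝ᵥ x) • a)) := by
        rw [lo_inv, act_lo]
        funext i
        rcases i with i | i | i <;> simp [tr, sub_mulVec, neg_mulVec, vmv, mul_comm]
      show _ = _
      rw [Subgroup.coe_mul, Subgroup.coe_mul, Subgroup.coe_inv, act_mul, act_mul] at h
      rw [show (L : OO) = lo a 0 IsAlt.zero from rfl, e2, e1] at h
      simp only [map_add, map_smul, hZ, hv, hY, act_lo] at h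
      have h1 := congrArg px h
      simp [mulVec_neg, mulVec_smul] at h1
      rw [← h1]
      module
    obtain ⟨h', p'', A'', C'', hh', hd⟩ := ih (L * g * L⁻¹) p' A' C' hv' (by
      have key : ∀ y, A' *ᵥ y = 0 → a ⬝ᵥ y = 0 ∧ A *ᵥ y = 0 := by
        intro y hy
        rw [hA', sub_eq_zero] at hy
        have h0 : a ⬝ᵥ y = 0 := by
          by_contra hne
          exact ha ⟨(a ⬝ᵥ y)⁻¹ • y, by
            rw [Matrix.toLin'_apply, mulVec_smul, hy, smul_smul, inv_mul_cancel₀ hne, one_smul]⟩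
        exact ⟨h0, by rw [hy, h0, zero_smul]⟩
      refine Nat.le_of_lt_succ (lt_of_lt_of_le (Submodule.finrank_lt_finrank_of_lt ?_) hg)
      refine lt_of_le_of_ne (fun y hy => ?_) fun he => hak ?_
      · exact LinearMap.mem_ker.2 (key y (LinearMap.mem_ker.1 hy)).2
      · have : k ∈ LinearMap.ker (Matrix.toLin' A') := he ▸ LinearMap.mem_ker.2 hk
        exact (key k (LinearMap.mem_ker.1 this)).1)
    exact ⟨h' * L, p'', A'', C'',
      by rwa [show h' * L * g * (h' * L)⁻¹ = h' * (L * g * L⁻¹) * h'⁻¹ by group], hd⟩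

/-! ### The class -/

set_option maxHeartbeats 1000000 in
theorem cov_state (h2 : (2 : F) ≠ 0) (hq : 5 ≤ Fintype.card F) (hm : 3 ≤ m) (b : Plus.HH F m)
    (s : F) (hb : ∀ A : Mat, A.det = s ^ 2 → (∀ a : F, A ≠ a • 1) → ∃ P Q : Plus.HH F m,
      A = ((P * b * P⁻¹ * (Q * b * Q⁻¹) : Plus.HH F m).1 : Mat))
    (fLo : ∀ v ∈ LoG F m, LG h2 hq b * v = v * LG h2 hq b → v = 1)
    (fUp : ∀ v ∈ UpG F m, LG h2 hq b * v = v * LG h2 hq b → v = 1)
    (g : GG) (p : Vec) (A C : Mat)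
    (hv : ∀ x, act g.1 (tr 0 x 0) = tr (p ⬝ᵥ x) (A *ᵥ x) (C *ᵥ x))
    (hA : A.det ≠ 0) (hC : C ≠ 0) (hs : s ≠ 0) : Cov (LG h2 hq b) g := by
  classical
  -- finish
  have fin : ∀ (g : GG) (p : Vec) (A C : Mat),
      (∀ x, act g.1 (tr 0 x 0) = tr (p ⬝ᵥ x) (A *ᵥ x) (C *ᵥ x)) → A.det = s ^ 2 →
      (∀ a : F, A ≠ a • 1) → Cov (LG h2 hq b) g := by
    intro g p A C hv hd hns
    obtain ⟨X, a, b', R, R', hR, hR', hX, -, -, -, hdec⟩ :=
      exists_decomp h2 hq g.2 hv (by rw [hd]; exact pow_ne_zero 2 hs)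
    obtain ⟨P, Q, hPQ⟩ := hb A hd hns
    refine cov_gauss (LG h2 hq) (LoG F m) (UpG F m) ?_ ?_ b fLo fUp
      (v := ⟨lo a R hR, lo_mem h2 hq _ _ _⟩) (u := ⟨up b' R' hR', up_mem h2 hq _ _ _⟩)
      ⟨a, R, hR, rfl⟩ ⟨b', R', hR', rfl⟩ P Q (Subtype.ext ?_)
    · rintro h v ⟨a', S, hS, hv'⟩
      exact ⟨_, _, _, by
        rw [Subgroup.coe_mul, Subgroup.coe_mul, Subgroup.coe_inv, LG_val, hv', levi_conj_lo]⟩
    · rintro h v ⟨a', S, hS, hv'⟩
      exact ⟨_, _, _, by
        rw [Subgroup.coe_mul, Subgroup.coe_mul, Subgroup.coe_inv, LG_val, hv', levi_conj_up]⟩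
    · rw [hdec, Subgroup.coe_mul, Subgroup.coe_mul, LG_val]
      congr 3
      exact Units.ext (hX.trans hPQ)
  -- the effect of a conjugation by an upper element
  have hcol : ∀ (g : GG) (p : Vec) (A C : Mat) (a : Vec) (R : Mat) (hR : IsAlt R),
      (∀ x, act g.1 (tr 0 x 0) = tr (p ⬝ᵥ x) (A *ᵥ x) (C *ᵥ x)) → ∀ x,
      act ((⟨up a R hR, up_mem h2 hq _ _ _⟩ : GG) * g *
        (⟨up a R hR, up_mem h2 hq _ _ _⟩ : GG)⁻¹ : GG).1 (tr 0 x 0) =
      tr ((p + a ᵥ* C) ⬝ᵥ x) ((A - (2 : F) • vecMulVec a p + (R - vecMulVec a a) * C) *ᵥ x)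
        (C *ᵥ x) := fun g p A C a R hR hv x => conj_up_col hv a R hR x
  have hstep : ∀ (A R₀ : Mat) (a₀ a : Vec), IsAlt R₀ →
      A - (2 : F) • vecMulVec a (a₀ ᵥ* A) + (0 - vecMulVec a a) * ((R₀ - vecMulVec a₀ a₀) * A) =
        (1 + vecMulVec a (((a ⬝ᵥ a₀) - 2) • a₀ - a ᵥ* R₀)) * A ∧
      (1 + vecMulVec a (((a ⬝ᵥ a₀) - 2) • a₀ - a ᵥ* R₀)).det = (1 - a ⬝ᵥ a₀) ^ 2 := by
    intro A R₀ a₀ a hR₀
    constructor
    · rw [zero_sub, Matrix.neg_mul, ← Matrix.mul_assoc, vecMulVec_mul', vecMul_sub,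
        vecMul_vecMulVec, vecMulVec_mul', Matrix.add_mul, Matrix.one_mul, vecMulVec_mul',
        sub_vecMul, smul_vecMul, sub_vecMul, smul_vecMul]
      simp only [vecMulVec_sub, vecMulVec_smul]
      module
    · rw [det_rank_one, sub_dotProduct, smul_dotProduct, ← dotProduct_mulVec a R₀, hR₀,
        dotProduct_comm a₀ a, smul_eq_mul]
      ring
  -- from a non-scalar block
  have main : ∀ (g : GG) (p : Vec) (A C : Mat),
      (∀ x, act g.1 (tr 0 x 0) = tr (p ⬝ᵥ x) (A *ᵥ x) (C *ᵥ x)) → A.det ≠ 0 → C ≠ 0 →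
      (∀ a : F, A ≠ a • 1) → Cov (LG h2 hq b) g := by
    intro g p A C hv hA hC hns
    obtain ⟨X, a₀, b', R₀, R', hR₀, hR', hX, hp, hCR, ⟨r, hr⟩, -⟩ :=
      exists_decomp h2 hq g.2 hv hA
    have hr0 : r ≠ 0 := fun h0 => hA (by rw [hr, h0, mul_zero])
    by_cases ha₀ : a₀ = 0
    · subst ha₀
      rw [zero_vecMul] at hp
      rw [vecMulVec_zero, sub_zero] at hCR
      have hR0 : R₀ ≠ 0 := fun h0 => hC (by rw [hCR, h0, Matrix.zero_mul])
      obtain ⟨S, hS, hd, hns'⟩ := alt_target (by omega) hm hR₀ hR0 hns (s * r⁻¹)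
      have e : A - (2 : F) • vecMulVec 0 p + (S - vecMulVec 0 0) * C = (1 + S * R₀) * A := by
        rw [hCR, Matrix.add_mul, Matrix.one_mul, Matrix.mul_assoc]
        simp
      refine Cov.conj _ (fin _ _ _ _ (hcol g p A C 0 S hS hv) ?_ ?_)
      · rw [e, det_mul, hd, hr]
        field_simp
      · rw [e]; exact hns'
    · obtain ⟨v, hv0, hne⟩ := exists_avoid (by omega) hns (fun v : Vec => (v ⬝ᵥ a₀) * (v ⬝ᵥ a₀))
        (fun u v : Vec => 2 * ((u ⬝ᵥ a₀) * (v ⬝ᵥ a₀)))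
        (fun u v x => by simp [add_dotProduct, smul_dotProduct]; ring) (by
          obtain ⟨i, hi⟩ := Function.ne_iff.1 ha₀
          exact ⟨Pi.single i 1, by simpa using hi⟩)
      have hv1 : v ⬝ᵥ a₀ ≠ 0 := fun h0 => hv0 (by simp [h0])
      set x : F := (1 - s * r⁻¹) * (v ⬝ᵥ a₀)⁻¹ with hx
      obtain ⟨e1, e2⟩ := hstep A R₀ a₀ (x • v) hR₀
      rw [← hp, ← hCR] at e1
      refine Cov.conj _ (fin _ _ _ _ (hcol g p A C (x • v) 0 IsAlt.zero hv) ?_ ?_)
      · rw [e1, det_mul, e2, smul_dotProduct, smul_eq_mul, hx, mul_assoc, inv_mul_cancel₀ hv1, hr]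
        field_simp
        ring
      · rw [e1, smul_vecMulVec, ← vecMulVec_smul]
        exact ns_rank_one hne _
  by_cases hns : ∀ a : F, A ≠ a • 1
  · exact main g p A C hv hA hC hns
  push Not at hns
  obtain ⟨c, hc⟩ := hns
  have hc0 := det_eq_zero_of_smul (by omega) hc hA
  obtain ⟨X, a₀, b', R₀, R', hR₀, hR', hX, hp, hCR, -, -⟩ := exists_decomp h2 hq g.2 hv hA
  by_cases ha₀ : a₀ = 0
  · subst ha₀
    rw [vecMulVec_zero, sub_zero] at hCR
    have hR0 : R₀ ≠ 0 := fun h0 => hC (by rw [hCR, h0, Matrix.zero_mul])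
    obtain ⟨S, hS, hd, hns'⟩ := alt_perturb (by omega) hm hR₀ hR0
    have e : A - (2 : F) • vecMulVec 0 p + (S - vecMulVec 0 0) * C = (1 + S * R₀) * A := by
      rw [hCR, Matrix.add_mul, Matrix.one_mul, Matrix.mul_assoc]
      simp
    refine Cov.conj _ (main _ _ _ _ (hcol g p A C 0 S hS hv) ?_ hC ?_)
    · rw [e, det_mul]; exact mul_ne_zero hd hA
    · intro d hd'
      rw [e, hc, Matrix.mul_smul, Matrix.mul_one] at hd'
      refine hns' (c⁻¹ * d) ?_
      rw [← smul_smul, ← hd', smul_smul, inv_mul_cancel₀ hc0, one_smul]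
  · obtain ⟨i, hi⟩ := Function.ne_iff.1 ha₀
    obtain ⟨y, -, hy⟩ := Finset.exists_mem_notMem_of_card_lt_card (s := ({0, 1, 2} : Finset F))
      (t := Finset.univ) (lt_of_le_of_lt Finset.card_le_three (by rw [Finset.card_univ]; omega))
    simp only [Finset.mem_insert, Finset.mem_singleton, not_or] at hy
    set a : Vec := (y * (a₀ i)⁻¹) • Pi.single i 1 with hadef
    have hab : a ⬝ᵥ a₀ = y := by
      rw [hadef, smul_dotProduct, single_dotProduct, one_mul, smul_eq_mul, mul_assoc,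
        inv_mul_cancel₀ hi, mul_one]
    obtain ⟨e1, e2⟩ := hstep A R₀ a₀ a hR₀
    rw [← hp, ← hCR] at e1
    refine Cov.conj _ (main _ _ _ _ (hcol g p A C a 0 IsAlt.zero hv) ?_ hC ?_)
    · rw [e1, det_mul, e2, hab]
      exact mul_ne_zero (pow_ne_zero 2 (sub_ne_zero.2 (Ne.symm hy.2.1))) hA
    · intro d hd'
      rw [e1, hc, Matrix.mul_smul, Matrix.mul_one] at hd'
      refine ns_one_rank_one (ι := Fin m) (by simpa using (by omega : 2 ≤ m)) ?_ (c⁻¹ * d) (by
        rw [← smul_smul, ← hd', smul_smul, inv_mul_cancel₀ hc0, one_smul])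
      rw [sub_dotProduct, smul_dotProduct, ← dotProduct_mulVec a R₀, hR₀, sub_zero,
        dotProduct_comm a₀ a, hab, smul_eq_mul]
      exact mul_ne_zero (sub_ne_zero.2 hy.2.2) hy.1

set_option maxHeartbeats 2000000 in
theorem exists_class (hF : 9 ≤ Fintype.card F) (m : ℕ) (hm : 3 ≤ m) (hodd : Odd (Fintype.card F))
    {G : Type*} [Group G] (e : G ≃* Cfsg.POmega F (Cfsg.quadFormOdd m F)) :
    ∃ c : G, ∀ g : G, ∃ x y : G, g = (x * c * x⁻¹) * (y * c * y⁻¹) := by
  classical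
  revert e
  rw [← oddQ_eq m]
  intro e
  have h2 : (2 : F) ≠ 0 := two_ne_zero_of_odd hodd
  obtain ⟨k, rfl⟩ : ∃ k, m = 1 + k := ⟨m - 1, by omega⟩
  have hq : 5 ≤ Fintype.card F := by omega
  have hq4 : 4 ≤ Fintype.card F := by omega
  have hK : 4 ≤ Cardinal.mk F := by
    rw [Cardinal.mk_fintype]; exact_mod_cast hq4
  obtain ⟨z, hz⟩ := IsCyclic.exists_generator (α := Fˣ)
  have ho : 8 ≤ orderOf z := by
    rw [orderOf_eq_card_of_forall_mem_zpowers hz, Nat.card_eq_fintype_card, Fintype.card_units]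
    omega
  have hpw : ∀ i : ℕ, 0 < i → i < 8 → (z : F) ^ i ≠ 1 := fun i h0 h8 hi => by
    have : orderOf z ∣ i := orderOf_dvd_of_pow_eq_one (Units.ext (by simpa using hi))
    have := Nat.le_of_dvd h0 this
    omega
  have hγ : (z : F) ≠ 1 := fun h => hpw 1 (by omega) (by omega) (by rw [pow_one]; exact h)
  obtain ⟨d, c, hdc, hdc1, hcc, hdd, hd1, hc1, hsq⟩ : ∃ d c : Fˣ, (d : F) ≠ c ∧
      (d : F) * c ≠ 1 ∧ (c : F) * c ≠ 1 ∧ (d : F) * d ≠ 1 ∧ (d : F) ≠ 1 ∧ (c : F) ≠ 1 ∧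
      IsSquare ((d : F) * (c : F) ^ k) := by
    rcases Nat.even_or_odd k with hk | hk
    · refine ⟨z ^ 2, z, ?_, ?_, ?_, ?_, ?_, hγ, ?_⟩
      · intro h
        refine hγ (mul_left_cancel₀ z.ne_zero ?_)
        rw [Units.val_pow_eq_pow_val, pow_two] at h
        rw [mul_one, h]
      · rw [Units.val_pow_eq_pow_val, ← pow_succ]; exact hpw 3 (by omega) (by omega)
      · rw [← pow_two]; exact hpw 2 (by omega) (by omega)
      · rw [Units.val_pow_eq_pow_val, ← pow_add]; exact hpw 4 (by omega) (by omega)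
      · rw [Units.val_pow_eq_pow_val]; exact hpw 2 (by omega) (by omega)
      · rw [Units.val_pow_eq_pow_val, ← pow_add]
        exact (even_two.add hk).isSquare_pow _
    · refine ⟨z, z ^ 3, ?_, ?_, ?_, ?_, hγ, ?_, ?_⟩
      · intro h
        refine hpw 2 (by omega) (by omega) ?_
        rw [Units.val_pow_eq_pow_val] at h
        refine mul_left_cancel₀ z.ne_zero ?_
        rw [mul_one, ← pow_succ', ← h]
      · rw [Units.val_pow_eq_pow_val, ← pow_succ']; exact hpw 4 (by omega) (by omega)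
      · rw [Units.val_pow_eq_pow_val, ← pow_add]; exact hpw 6 (by omega) (by omega)
      · rw [← pow_two]; exact hpw 2 (by omega) (by omega)
      · rw [Units.val_pow_eq_pow_val]; exact hpw 3 (by omega) (by omega)
      · rw [Units.val_pow_eq_pow_val, ← pow_mul, ← pow_succ']
        exact Even.isSquare_pow (by
          obtain ⟨j, rfl⟩ := hk
          exact ⟨3 * j + 2, by ring⟩) _
  set b : Plus.HH F (1 + k) := ⟨bGL d c k, Plus.mem_HH.2 (by rw [bGL_val, blockB_det]; exact hsq)⟩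
  have hbval : ((b : GL (Fin (1 + k)) F) : Matrix (Fin (1 + k)) (Fin (1 + k)) F) =
      blockB (d : F) c k := rfl
  have memSL : ∀ {P : GL (Fin (1 + k)) F},
      (P : Matrix (Fin (1 + k)) (Fin (1 + k)) F).det = 1 → P ∈ Plus.HH F (1 + k) := fun h =>
    Plus.mem_HH.2 (by rw [h]; exact IsSquare.one)
  have hu : IsUnit (blockB (d : F) c k).det := by rw [blockB_det]; simp
  set σ₀ := Plus.swap F (1 + k) (Plus.nonde hq4)
  set S := psi σ₀ with hSdef
  have hact : ∀ z x y, act S (tr z x y) = tr z y x := fun z x y => by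
    rw [hSdef, act_psi, act_apply]
    show tr z ((Plus.mat σ₀ *ᵥ Sum.elim x y) ∘ Sum.inl) ((Plus.mat σ₀ *ᵥ Sum.elim x y) ∘ Sum.inr) = _
    rw [Plus.swap_mat hq4, fromBlocks_mulVec]
    simp [Sum.elim_comp_inl, Sum.elim_comp_inr]
  have hSinv : S⁻¹ = S := inv_eq_of_mul_eq_one_right (ext3 fun z x y => by
    rw [act_mul, hact, hact, act_one])
  -- reality
  obtain ⟨Z, hZd, hZb⟩ := exists_centralizing d c k ((-1) ^ (1 + k))
  set W := S * r0 F (1 + k) ^ (1 + k) * levi3 Z with hWdef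
  have hWmem : W ∈ Cfsg.Omega F ⇑(oddQ F (1 + k)) := by
    rw [mem_omega_iff (oddQ_nondeg h2 _) (nonde hq), hWdef, map_mul, map_mul, map_pow,
      theta_r0 h2 hq, hSdef, theta_psi h2 hq, Plus.swap_theta hq4]
    show _ * theta _ _ (psi (leviIso Z)) = 1
    rw [theta_psi h2 hq, theta_levi, hZd]
    simp only [Prod.mk_mul_mk, Prod.pow_mk, one_pow, mul_one, ← mul_pow, Int.units_mul_self,
      Units.val_pow_eq_pow_val, Units.val_neg, Units.val_one]
    rw [Prod.mk_eq_one]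
    exact ⟨rfl, by simp⟩
  have hrb : ∀ X : GL (Fin (1 + k)) F, levi3 X * r0 F (1 + k) = r0 F (1 + k) * levi3 X := fun X =>
    ext3 fun z x y => by rw [act_mul, act_mul, act_r0 h2, act_levi3, act_levi3, act_r0 h2]
  have hWb : W * levi3 (b : GL (Fin (1 + k)) F) * W⁻¹ =
      S * levi3 (b : GL (Fin (1 + k)) F) * S⁻¹ := by
    have h1 : levi3 Z * levi3 (b : GL (Fin (1 + k)) F) =
        levi3 (b : GL (Fin (1 + k)) F) * levi3 Z := by rw [← map_mul, ← map_mul, hZb]
    have h3 : r0 F (1 + k) ^ (1 + k) * levi3 (b : GL (Fin (1 + k)) F) =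
        levi3 (b : GL (Fin (1 + k)) F) * r0 F (1 + k) ^ (1 + k) :=
      ((show Commute (r0 F (1 + k)) (levi3 (b : GL (Fin (1 + k)) F)) from (hrb _).symm).pow_left _).eq
    rw [hWdef]
    calc _ = S * r0 F (1 + k) ^ (1 + k) * (levi3 Z * levi3 (b : GL (Fin (1 + k)) F)) *
          (levi3 Z)⁻¹ * (r0 F (1 + k) ^ (1 + k))⁻¹ * S⁻¹ := by group
      _ = S * (r0 F (1 + k) ^ (1 + k) * levi3 (b : GL (Fin (1 + k)) F)) *
          (r0 F (1 + k) ^ (1 + k))⁻¹ * S⁻¹ := by rw [h1]; group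
      _ = _ := by rw [h3]; group
  obtain ⟨P, hP, hPb⟩ := exists_transpose d c k
  have hswap : S * levi3 (b : GL (Fin (1 + k)) F) * S⁻¹ = levi3 (P * (bGL d c k)⁻¹ * P⁻¹) := by
    refine ext3 fun z x y => ?_
    rw [hSinv, act_mul, act_mul, hact, act_levi3, hact, act_levi3]
    have hval : ((P * (bGL d c k)⁻¹ * P⁻¹ : GL (Fin (1 + k)) F) :
        Matrix (Fin (1 + k)) (Fin (1 + k)) F) = ((blockB (d : F) c k)ᵀ)⁻¹ := by
      rw [hPb, ← Matrix.coe_units_inv]
      congr 1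
      group
    rw [hval, hbval, Matrix.nonsing_inv_nonsing_inv _ (by rwa [det_transpose]), transpose_transpose,
      transpose_nonsing_inv]
  have : Finite (Cfsg.Omega F ⇑(oddQ F (1 + k))) :=
    Finite.of_injective (fun g => ((g.1.1 : GL (Unit ⊕ (Fin (1 + k) ⊕ Fin (1 + k))) F) :
      Matrix (Unit ⊕ (Fin (1 + k) ⊕ Fin (1 + k))) (Unit ⊕ (Fin (1 + k) ⊕ Fin (1 + k))) F)) fun g h e => Subtype.ext (Subtype.ext (Units.ext e))
  let σ : Cfsg.Omega F ⇑(oddQ F (1 + k)) ≃* Cfsg.Omega F ⇑(oddQ F (1 + k)) := MulAut.conjNormal S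
  have hσ : ∀ g, (σ g : Cfsg.isometryGroup F ⇑(oddQ F (1 + k))) = S * g * S⁻¹ := fun g => rfl
  have hclass : ∃ u : Cfsg.Omega F ⇑(oddQ F (1 + k)), σ (LG h2 hq b) = u * LG h2 hq b * u⁻¹ :=
    ⟨⟨W, hWmem⟩, Subtype.ext (by
      rw [hσ, Subgroup.coe_mul, Subgroup.coe_mul, Subgroup.coe_inv, LG_val, hWb])⟩
  refine exists_of_center_quotient e (LG h2 hq b) ?_ ?_
  · refine ⟨(LG h2 hq ⟨P, memSL hP⟩)⁻¹ * ⟨W, hWmem⟩, ?_⟩
    refine Subtype.ext ?_
    simp only [Subgroup.coe_mul, Subgroup.coe_inv, LG_val, _root_.mul_inv_rev, inv_inv]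
    calc _ = (levi3 P)⁻¹ * (W * levi3 (b : GL (Fin (1 + k)) F) * W⁻¹) * levi3 P := by
          show (levi3 P)⁻¹ * _ * _ * (_ * levi3 P) = _
          group
      _ = _ := by
          rw [hWb, hswap, map_mul, map_mul, map_inv, map_inv]
          show _ = (levi3 (bGL d c k))⁻¹
          group
  intro g hg
  set s : F := (d : F) * (c : F) ^ k with hs
  have hs0 : s ≠ 0 := mul_ne_zero d.ne_zero (pow_ne_zero _ c.ne_zero)
  have hdet1 := det_blockB_sub_one (k := k) hd1 hc1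
  have hfixv : ∀ (M : Matrix (Fin (1 + k)) (Fin (1 + k)) F), (M - 1).det ≠ 0 →
      ∀ a : Fin (1 + k) → F, M *ᵥ a = a → a = 0 := by
    intro M hM a h
    by_contra hne
    exact hM (Matrix.exists_mulVec_eq_zero_iff.1
      ⟨a, hne, by rw [sub_mulVec, one_mulVec, h, sub_self]⟩)
  have hcov : ∀ (g : Cfsg.Omega F ⇑(oddQ F (1 + k))) (p : Fin (1 + k) → F)
      (A C : Matrix (Fin (1 + k)) (Fin (1 + k)) F),
      (∀ x, act g.1 (tr 0 x 0) = tr (p ⬝ᵥ x) (A *ᵥ x) (C *ᵥ x)) → A.det ≠ 0 → C ≠ 0 →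
      Cov (LG h2 hq b) g := by
    intro g p A C hv hA hC
    refine cov_state h2 hq hm b s ?_ ?_ ?_ g p A C hv hA hC hs0
    · intro A hd hns
      obtain ⟨P, Q, hP, hQ, hA⟩ := exists_two hK d c hdc (by omega) z.ne_zero hγ A hd hns
      exact ⟨⟨P, memSL hP⟩, ⟨Q, memSL hQ⟩, hA⟩
    · rintro v ⟨a, R, hR, hv⟩ hcm
      have hc : ∀ x, a ⬝ᵥ x = a ⬝ᵥ (blockB (d : F) c k *ᵥ x) ∧
          ((blockB (d : F) c k)⁻¹)ᵀ *ᵥ ((R - vecMulVec a a) *ᵥ x) =
            (R - vecMulVec a a) *ᵥ (blockB (d : F) c k *ᵥ x) := fun x => by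
        have h := congrArg (fun w : Cfsg.Omega F ⇑(oddQ F (1 + k)) => act w.1 (tr 0 x 0)) hcm
        simp only [Subgroup.coe_mul, LG_val, hv, act_mul, act_lo, act_levi3, hbval] at h
        obtain ⟨h1, -, h3⟩ := tr_inj h
        simp at h1 h3
        exact ⟨h1, by simpa [mulVec_mulVec] using h3⟩
      have ha : a = 0 := hfixv (blockB (d : F) c k)ᵀ
        (by rwa [← transpose_one, ← transpose_sub, det_transpose]) a (funext fun i => by
          have h := (hc (Pi.single i 1)).1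
          rw [dotProduct_mulVec, dotProduct_single_one, dotProduct_single_one] at h
          rw [mulVec_transpose]
          exact h.symm)
      subst ha
      have hR0 : R = 0 := fix_form hdc1 hcc (Or.inl hdd) (by
        have h : ((blockB (d : F) c k)⁻¹)ᵀ * R = R * blockB (d : F) c k :=
          Matrix.ext_iff_mulVec.2 fun x => by
            have := (hc x).2
            simpa [vecMulVec_zero, mulVec_mulVec] using this
        rw [Matrix.mul_assoc, ← h, ← Matrix.mul_assoc, ← transpose_mul,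
          Matrix.nonsing_inv_mul _ hu, transpose_one, Matrix.one_mul])
      subst hR0
      exact Subtype.ext (hv.trans lo_zero)
    · rintro v ⟨a, R, hR, hv⟩ hcm
      have hc : ∀ y, a ⬝ᵥ y = a ⬝ᵥ (((blockB (d : F) c k)⁻¹)ᵀ *ᵥ y) ∧
          blockB (d : F) c k *ᵥ ((R - vecMulVec a a) *ᵥ y) =
            (R - vecMulVec a a) *ᵥ (((blockB (d : F) c k)⁻¹)ᵀ *ᵥ y) := fun y => by
        have h := congrArg (fun w : Cfsg.Omega F ⇑(oddQ F (1 + k)) => act w.1 (tr 0 0 y)) hcm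
        simp only [Subgroup.coe_mul, LG_val, hv, act_mul, act_up, act_levi3, hbval] at h
        obtain ⟨h1, h3, -⟩ := tr_inj h
        simp at h1 h3
        exact ⟨h1, by simpa [mulVec_mulVec] using h3⟩
      have ha : a = 0 := hfixv _ hdet1 a (by
        have h0 : (blockB (d : F) c k)⁻¹ *ᵥ a = a := funext fun i => by
          have h := (hc (Pi.single i 1)).1
          rw [dotProduct_mulVec, vecMul_transpose, dotProduct_single_one, dotProduct_single_one] at h
          exact h.symm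
        conv_lhs => rw [← h0, mulVec_mulVec, Matrix.mul_nonsing_inv _ hu, one_mulVec])
      subst ha
      have hR0 : R = 0 := fix_form' hdc1 hcc (Or.inl hdd) (by
        have h : blockB (d : F) c k * R = R * ((blockB (d : F) c k)⁻¹)ᵀ :=
          Matrix.ext_iff_mulVec.2 fun x => by
            have := (hc x).2
            simpa [vecMulVec_zero, mulVec_mulVec] using this
        rw [h, Matrix.mul_assoc, ← transpose_mul, Matrix.mul_nonsing_inv _ hu, transpose_one,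
          Matrix.mul_one])
      subst hR0
      exact Subtype.ext (hv.trans up_zero)
  obtain ⟨h, p, A, C, hv, hA⟩ := exists_invertible h2 hq g
  refine Cov.conj h ?_
  set g' := h * g * h⁻¹ with hg'
  by_cases hC : C ≠ 0
  · exact hcov _ p A C hv hA hC
  push Not at hC
  subst hC
  have hp : p = 0 := by
    funext i
    have h := act_map g'.1 (tr 0 (Pi.single i 1) 0)
    rw [hv, qtr, qtr, zero_mulVec, dotProduct_zero] at h
    simpa using h
  subst hp
  have hσσ : ∀ g, σ (σ g) = g := fun g => Subtype.ext (by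
    rw [hσ, hσ, hSinv]
    have : S * S = 1 := by nth_rw 1 [← hSinv]; exact inv_mul_cancel S
    calc S * (S * g.1 * S) * S = (S * S) * g.1 * (S * S) := by group
      _ = g.1 := by rw [this, one_mul, mul_one])
  have viaσ : ∀ g : Cfsg.Omega F ⇑(oddQ F (1 + k)),
      Cov (LG h2 hq b) (σ g) → Cov (LG h2 hq b) g := fun g h => by
    have := h.of_aut σ hclass
    rwa [hσσ] at this
  have hσcol : ∀ (g : Cfsg.Omega F ⇑(oddQ F (1 + k))) (r : Fin (1 + k) → F)
      (B D : Matrix (Fin (1 + k)) (Fin (1 + k)) F),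
      (∀ y, act g.1 (tr 0 0 y) = tr (r ⬝ᵥ y) (B *ᵥ y) (D *ᵥ y)) →
      ∀ x, act (σ g).1 (tr 0 x 0) = tr (r ⬝ᵥ x) (D *ᵥ x) (B *ᵥ x) := by
    intro g r B D hY x
    rw [hσ, hSinv, act_mul, act_mul, hact, hY, hact]
  obtain ⟨r, B, D, hY⟩ := exists_colY g'.1
  have hAD : Aᵀ * D = 1 := by
    ext i j
    have h := act_polar g'.1 (tr 0 (Pi.single i 1) 0) (tr 0 0 (Pi.single j 1))
    rw [hv, hY, polar_tr, polar_tr] at h
    simp at h
    rw [Matrix.mul_apply, Matrix.one_apply]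
    simp [dotProduct, Matrix.col, Pi.single_apply, eq_comm] at h
    simpa using h.symm
  have hDdet : D.det ≠ 0 := fun h0 => by
    have := congrArg Matrix.det hAD
    rw [det_mul, h0, mul_zero, det_one] at this
    exact zero_ne_one this
  by_cases hB : B ≠ 0
  · exact viaσ _ (hcov _ r D B (hσcol _ r B D hY) hDdet hB)
  push Not at hB
  subst hB
  have hr : r = 0 := by
    funext i
    have h := act_map g'.1 (tr 0 0 (Pi.single i 1))
    rw [hY, qtr, qtr, zero_mulVec, zero_dotProduct] at h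
    simpa using h
  subst hr
  obtain ⟨α, u, w, hZ⟩ : ∃ α u w, act g'.1 (tr 1 0 0) = tr α u w := ⟨_, _, _, (tr_eta _).symm⟩
  -- the middle part is the identity
  obtain ⟨X, a₁, b₁, R₁, R₁', hR₁, hR₁', hX, hpa, hCR, -, hdec⟩ :=
    exists_decomp h2 hq g'.2 hv hA
  have ha₁ : a₁ = 0 := by
    have := congrArg (fun t => t ᵥ* A⁻¹) hpa
    simpa [vecMul_vecMul, Matrix.mul_nonsing_inv _ (isUnit_iff_ne_zero.2 hA)] using this.symm
  subst ha₁
  have hR₁0 : R₁ = 0 := by
    have := congrArg (fun M => M * A⁻¹) hCR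
    simpa [Matrix.mul_assoc, Matrix.mul_nonsing_inv _ (isUnit_iff_ne_zero.2 hA)] using this.symm
  subst hR₁0
  rw [show lo (0 : Fin (1 + k) → F) 0 hR₁ = 1 from lo_zero, one_mul] at hdec
  have hY' : ∀ y, b₁ ⬝ᵥ y = 0 ∧ (R₁' - vecMulVec b₁ b₁) *ᵥ y = 0 := fun y => by
    have h := hY y
    rw [hdec, act_mul, act_up, act_levi3] at h
    obtain ⟨h1, h3, -⟩ := tr_inj h
    simp at h1 h3
    refine ⟨h1, ?_⟩
    have := congrArg (fun t => (X : Matrix (Fin (1 + k)) (Fin (1 + k)) F)⁻¹ *ᵥ t) h3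
    simpa [mulVec_mulVec, ← Matrix.mul_assoc, Matrix.nonsing_inv_mul _ (isUnit_det X)] using this
  have hb₁ : b₁ = 0 := funext fun i => by simpa using (hY' (Pi.single i 1)).1
  subst hb₁
  have hR₁'0 : R₁' = 0 := Matrix.ext_iff_mulVec.2 fun y => by
    simpa [vecMulVec_zero] using (hY' y).2
  subst hR₁'0
  rw [show up (0 : Fin (1 + k) → F) 0 hR₁' = 1 from up_zero, mul_one] at hdec
  by_cases hX1 : (X : Matrix (Fin (1 + k)) (Fin (1 + k)) F) = 1
  · exfalso
    refine hg ?_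
    have : g' = 1 := Subtype.ext (by rw [hdec, show X = 1 from Units.ext hX1, map_one]; rfl)
    rw [show g = h⁻¹ * g' * h by rw [hg']; group, this, mul_one, inv_mul_cancel]
    exact one_mem _
  obtain ⟨i, hi⟩ : ∃ i, Pi.single i (1 : F) ᵥ* D ≠ Pi.single i 1 := by
    by_contra hall
    push Not at hall
    refine hX1 ?_
    have hD1 : D = 1 := Matrix.ext fun i j => by
      have := congrFun (hall i) j
      simpa [Matrix.one_apply, Pi.single_apply, eq_comm] using this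
    rw [hD1, Matrix.mul_one] at hAD
    rw [hX, ← transpose_transpose A, hAD, transpose_one]
  set a : Fin (1 + k) → F := Pi.single i 1
  let U : Cfsg.Omega F ⇑(oddQ F (1 + k)) := ⟨up a 0 IsAlt.zero, up_mem h2 hq _ _ _⟩
  obtain ⟨r', B', D', hY'⟩ := exists_colY (U * g' * U⁻¹).1
  have hcalc : ∀ y, r' ⬝ᵥ y = a ⬝ᵥ (D *ᵥ y) - a ⬝ᵥ y ∧ D' *ᵥ y = D *ᵥ y := fun y => by
    have h := hY' y
    rw [Subgroup.coe_mul, Subgroup.coe_mul, Subgroup.coe_inv, act_mul, act_mul,
      show (U : Cfsg.isometryGroup F ⇑(oddQ F (1 + k))) = up a 0 IsAlt.zero from rfl, up_inv,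
      act_up, hdec, act_levi3, act_up] at h
    have hDX : ((X : Matrix (Fin (1 + k)) (Fin (1 + k)) F)⁻¹)ᵀ = D := by
      rw [hX, transpose_nonsing_inv, Matrix.inv_eq_right_inv hAD]
    rw [hDX] at h
    obtain ⟨h1, -, h3⟩ := tr_inj h
    simp at h1 h3
    exact ⟨by rw [← h1]; ring, h3.symm⟩
  have hr' : r' ≠ 0 := fun h0 => hi (funext fun j => by
    have := (hcalc (Pi.single j 1)).1
    rw [h0, zero_dotProduct, dotProduct_mulVec, dotProduct_single_one, dotProduct_single_one] at this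
    exact sub_eq_zero.1 this.symm)
  have hB' : B' ≠ 0 := fun h0 => hr' (funext fun j => by
    have h := act_map (U * g' * U⁻¹).1 (tr 0 0 (Pi.single j 1))
    rw [hY', qtr, qtr, h0, zero_mulVec, zero_dotProduct] at h
    simpa using h)
  have hD' : D' = D := Matrix.ext_iff_mulVec.2 fun y => (hcalc y).2
  exact Cov.conj U (viaσ _ (hcov _ r' D' B' (hσcol _ r' B' D' hY') (hD' ▸ hDdet) hB'))

end Cfsg.Agent.ClassSquareGauss.Odd
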