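import Cfsg.Agent.Lib.Classical.Thompson.LargeField

/-!
# Peeling a unit top entry: arbitrary invertible matrices

The determinant-free form of `Thompson.peel`.
-/

set_option autoImplicit false

namespace Cfsg.Agent.ClassSquareGauss

open Matrix Module Cfsg.Agent.Classical.Thompson

variable {F : Type*} [Field F]

theorem peel_gen {m : ℕ} (A : Matrix (Fin (1 + m)) (Fin (1 + m)) F) (hdet : A.det ≠ 0)
    (hns : ∀ k : F, A ≠ k • 1) :
    ∃ (R : Matrix (Fin 1) (Fin m) F) (C : Matrix (Fin m) (Fin 1) F) (S : Matrix (Fin m) (Fin m) F),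
      S.det = A.det ∧ C ≠ 0 ∧ (2 ≤ m → ∀ k : F, S ≠ k • 1) ∧
      Sim A ((fromBlocks 1 R C (C * R + S)).reindex finSumFinEquiv finSumFinEquiv) := by
  classical
  obtain ⟨v, hv⟩ := exists_not_eigen hns
  obtain ⟨φ, hφv, hφw, hφ⟩ := exists_functional_peel A hdet hv
  obtain ⟨w, hw⟩ : ∃ w, A *ᵥ v = w := ⟨_, rfl⟩
  rw [hw] at hv hφw hφ
  let K := LinearMap.ker φ
  have hK : finrank F K = m := by
    have hsurj : Function.Surjective φ := fun c => ⟨c • v, by simp [hφv]⟩
    have h := LinearMap.finrank_range_add_finrank_ker φ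
    rw [LinearMap.range_eq_top.2 hsurj, finrank_top, finrank_self, Module.finrank_pi, Fintype.card_fin] at h
    change 1 + finrank F K = 1 + m at h
    omega
  let bK := Module.finBasisOfFinrankEq F K hK
  let π : (Fin (1 + m) → F) →ₗ[F] K := LinearMap.codRestrict K (LinearMap.id - φ.smulRight v)
    fun x => by simp [K, hφv]
  have hπval : ∀ x, (π x : Fin (1 + m) → F) = x - φ x • v := fun x => rfl
  have hπv : π v = 0 := Subtype.ext (by rw [hπval, hφv, one_smul, sub_self]; rfl)
  let e : (Fin (1 + m) → F) ≃ₗ[F] (Fin 1 ⊕ Fin m → F) :=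
    { toFun := fun x => Sum.elim (fun _ => φ x) (bK.equivFun (π x))
      map_add' := fun x y => by ext (i | i) <;> simp
      map_smul' := fun c x => by ext (i | i) <;> simp
      invFun := fun y => y (Sum.inl 0) • v + (bK.equivFun.symm fun i => y (Sum.inr i)).val
      left_inv := fun x => by
        show φ x • v + (bK.equivFun.symm fun i => bK.equivFun (π x) i).val = x
        rw [LinearEquiv.symm_apply_apply, hπval]
        abel
      right_inv := fun y => by
        have hz : φ (bK.equivFun.symm fun i => y (Sum.inr i)).val = 0 := (bK.equivFun.symm _).2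
        have hπ : π (y (Sum.inl 0) • v + (bK.equivFun.symm fun i => y (Sum.inr i)).val) =
            bK.equivFun.symm fun i => y (Sum.inr i) := Subtype.ext (by
              rw [hπval, map_add, map_smul, hφv, hz, add_zero, smul_eq_mul, mul_one]; abel)
        funext i
        rcases i with i | i
        · simp [hz, hφv, Subsingleton.elim i 0]
        · show bK.equivFun (π _) i = _
          rw [hπ, LinearEquiv.apply_symm_apply] }
  let b : Module.Basis (Fin 1 ⊕ Fin m) F (Fin (1 + m) → F) := Module.Basis.ofEquivFun e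
  let M := LinearMap.toMatrix b b (Matrix.toLin' A)
  have hrepr : ∀ x i, b.repr x i = e x i := fun x i => rfl
  have hbl : ∀ i, b (Sum.inl i) = v := fun i => by
    have h1 : e v = Pi.single (Sum.inl i) 1 := by
      funext j
      rcases j with j | j
      · simp [e, hφv, Subsingleton.elim j i]
      · simp [e, hπv]
    rw [Module.Basis.coe_ofEquivFun]
    show e.symm (Pi.single (Sum.inl i) 1) = v
    rw [← h1, LinearEquiv.symm_apply_apply]
  have hbr : ∀ j, φ (b (Sum.inr j)) = 0 := fun j => by
    have := hrepr (b (Sum.inr j)) (Sum.inl 0)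
    simp [e] at this
    exact this.symm
  let R := M.toBlocks₁₂
  let C := M.toBlocks₂₁
  let S := M.toBlocks₂₂ - C * R
  have h11 : M.toBlocks₁₁ = 1 := by
    ext i j
    rw [Subsingleton.elim i j]
    show M (Sum.inl j) (Sum.inl j) = (1 : Matrix (Fin 1) (Fin 1) F) j j
    rw [Matrix.one_apply_eq]
    show LinearMap.toMatrix b b (Matrix.toLin' A) (Sum.inl j) (Sum.inl j) = 1
    rw [LinearMap.toMatrix_apply, hbl, hrepr, Matrix.toLin'_apply]
    simp [e, hw, hφw]
  have hM : M = fromBlocks 1 R C (C * R + S) := by
    rw [← h11, show C * R + S = M.toBlocks₂₂ by simp [S]]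
    exact (fromBlocks_toBlocks M).symm
  have hsim : Sim A (M.reindex finSumFinEquiv finSumFinEquiv) := by
    let b' := b.reindex finSumFinEquiv
    have : M.reindex finSumFinEquiv finSumFinEquiv = LinearMap.toMatrix b' b' (Matrix.toLin' A) := by
      ext i j
      simp [M, b', LinearMap.toMatrix_apply]
    rw [this]
    exact ⟨(Pi.basisFun F _).toMatrix b', b'.toMatrix (Pi.basisFun F _),
      Module.Basis.toMatrix_mul_toMatrix_flip _ _, by
        rw [basis_toMatrix_mul_linearMap_toMatrix_mul_basis_toMatrix, LinearMap.toMatrix_eq_toMatrix']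
        simp⟩
  refine ⟨R, C, S, ?_, ?_, ?_, hM ▸ hsim⟩
  · have h := hsim.det_eq
    rw [det_reindex_self, hM, det_fromBlocks_one₁₁, add_sub_cancel_left] at h
    exact h.symm
  · intro hC
    refine hv 1 ?_
    rw [one_smul]
    refine e.injective (funext fun i => ?_)
    rcases i with i | i
    · simp [e, hφv, hφw]
    · have h := congrFun (congrFun hC i) 0
      simp [C, M, Matrix.toBlocks₂₁, LinearMap.toMatrix_apply, hbl, hrepr, hw] at h
      simp [e, hπv] at h ⊢
      exact h
  · intro hm k hk
    obtain ⟨x, hx, hne⟩ := hφ (by omega) k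
    refine hne ?_
    have hlin : ∀ j, A *ᵥ b (Sum.inr j) - φ (A *ᵥ b (Sum.inr j)) • w = k • b (Sum.inr j) := by
      intro j
      refine e.injective (funext fun i => ?_)
      simp only [map_sub, map_smul, Pi.sub_apply, Pi.smul_apply, smul_eq_mul, ← hrepr, Finsupp.coe_sub, Finsupp.coe_smul]
      rcases i with i | i
      · rw [Module.Basis.repr_self, Finsupp.single_eq_of_ne (by simp), hrepr, hrepr]
        simp [e, hφw]
      · have h := congrFun (congrFun hk i) j
        simp only [S, C, R, Matrix.sub_apply, Matrix.mul_apply, Fin.sum_univ_one, Matrix.smul_apply,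
          Matrix.one_apply, smul_eq_mul] at h
        simp only [M, Matrix.toBlocks₂₂, Matrix.toBlocks₂₁, Matrix.toBlocks₁₂, Matrix.of_apply,
          LinearMap.toMatrix_apply, Matrix.toLin'_apply, hbl, hw] at h
        rw [hrepr _ (Sum.inl 0)] at h
        simp only [e, LinearEquiv.coe_mk, LinearMap.coe_mk, AddHom.coe_mk, Sum.elim_inl] at h
        rw [Module.Basis.repr_self, Finsupp.single_apply]
        simp only [Sum.inr.injEq, @eq_comm _ j i]
        rw [mul_comm (φ _)]
        exact h
    let T : (Fin (1 + m) → F) →ₗ[F] (Fin (1 + m) → F) :=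
      Matrix.toLin' A - (φ.comp (Matrix.toLin' A)).smulRight w - k • LinearMap.id
    have hT : ∀ i, T (b i) = φ (b i) • T v := fun i => by
      rcases i with i | i
      · rw [hbl, hφv, one_smul]
      · rw [hbr, zero_smul]
        simp [T, Matrix.toLin'_apply, hlin i]
    have hTx : T = φ.smulRight (T v) := b.ext fun i => by rw [hT]; rfl
    have h0 : T x = 0 := by
      rw [hTx, LinearMap.smulRight_apply, hx, zero_smul]
    exact sub_eq_zero.1 (by simpa [T, Matrix.toLin'_apply] using h0)

end Cfsg.Agent.ClassSquareGauss
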