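import Cfsg.Agent.Lib.ClassSquareGauss.Alt
import Cfsg.Agent.Lib.Classical.OmegaPlus
import Cfsg.Prelude.Def_Classical

/-!
# A class of `PΩ⁺_{2m}(F)` whose square is everything
-/

set_option autoImplicit false
set_option linter.unusedSectionVars false

namespace Cfsg.Agent.ClassSquareGauss.Plus

open Matrix
open Cfsg.Agent.Forms Cfsg.Agent.Forms.QuadStd Cfsg.Agent.Forms.Reflections
open Cfsg.Agent.Forms.PlusStd Cfsg.Agent.Classical.OmegaCrit Cfsg.Agent.Classical.OmegaScale
open Cfsg.Agent.Classical.OmegaPlus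

variable {F : Type*} [Field F] {m : ℕ}

local notation "Mat" => Matrix (Fin m) (Fin m) F
set_option quotPrecheck false in
local notation "OO" => Cfsg.isometryGroup F ⇑(plusQ F m)
set_option quotPrecheck false in
local notation "GG" => Cfsg.Omega F ⇑(plusQ F m)

/-- the underlying matrix -/
def mat (g : Cfsg.isometryGroup F ⇑(plusQ F m)) : Matrix (Fin m ⊕ Fin m) (Fin m ⊕ Fin m) F :=
  ((g : GL (Fin m ⊕ Fin m) F) : Matrix (Fin m ⊕ Fin m) (Fin m ⊕ Fin m) F)

theorem mat_mul (g h : OO) : mat (g * h) = mat g * mat h := rfl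

theorem mat_one : mat (1 : OO) = 1 := rfl

theorem mat_inj {g h : OO} (e : mat g = mat h) : g = h := Subtype.ext (Units.ext e)

theorem qval (v : Fin m ⊕ Fin m → F) :
    plusQ F m v = (v ∘ Sum.inl) ⬝ᵥ (v ∘ Sum.inr) := by
  rw [plusQ_apply]; rfl

theorem mat_levi (P : GL (Fin m) F) :
    mat (leviIso P) = fromBlocks (P : Mat) 0 0 ((P : Mat)⁻¹)ᵀ := leviIso_val P

theorem mat_preserves (g : OO) (v : Fin m ⊕ Fin m → F) : plusQ F m (mat g *ᵥ v) = plusQ F m v :=
  g.2 v v

/-- make an isometry -/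
noncomputable def mk (M N : Matrix (Fin m ⊕ Fin m) (Fin m ⊕ Fin m) F) (h1 : M * N = 1)
    (h : ∀ v, plusQ F m (M *ᵥ v) = plusQ F m v) : Cfsg.isometryGroup F ⇑(plusQ F m) :=
  ⟨⟨M, N, h1, mul_eq_one_comm.1 h1⟩, fun u _ => h u⟩

/-- lower unipotent -/
noncomputable def lowU (R : Mat) (hR : IsAlt R) : Cfsg.isometryGroup F ⇑(plusQ F m) :=
  mk (fromBlocks 1 0 R 1) (fromBlocks 1 0 (-R) 1) (by simp [fromBlocks_multiply, fromBlocks_one])
    fun v => by
      simp [qval, fromBlocks_mulVec, dotProduct_add, hR (v ∘ Sum.inl)]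

/-- upper unipotent -/
noncomputable def upU (S : Mat) (hS : IsAlt S) : Cfsg.isometryGroup F ⇑(plusQ F m) :=
  mk (fromBlocks 1 S 0 1) (fromBlocks 1 (-S) 0 1) (by simp [fromBlocks_multiply, fromBlocks_one])
    fun v => by
      simp [qval, fromBlocks_mulVec, add_dotProduct, dotProduct_comm (S *ᵥ _) (v ∘ Sum.inr),
        hS (v ∘ Sum.inr)]

theorem mat_lowU (R : Mat) (hR : IsAlt R) : mat (lowU R hR) = fromBlocks 1 0 R 1 := rfl

theorem mat_upU (S : Mat) (hS : IsAlt S) : mat (upU S hS) = fromBlocks 1 S 0 1 := rfl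

theorem lowU_inv (R : Mat) (hR : IsAlt R) : (lowU R hR)⁻¹ = lowU (-R) hR.neg :=
  inv_eq_of_mul_eq_one_right (mat_inj (by
    rw [mat_mul, mat_lowU, mat_lowU, mat_one]; simp [fromBlocks_multiply, fromBlocks_one]))

theorem upU_inv (S : Mat) (hS : IsAlt S) : (upU S hS)⁻¹ = upU (-S) hS.neg :=
  inv_eq_of_mul_eq_one_right (mat_inj (by
    rw [mat_mul, mat_upU, mat_upU, mat_one]; simp [fromBlocks_multiply, fromBlocks_one]))

theorem levi_conj_low (P : GL (Fin m) F) (R : Mat) (hR : IsAlt R) :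
    leviIso P * lowU R hR * (leviIso P)⁻¹ =
      lowU (((P : Mat)⁻¹)ᵀ * R * (P : Mat)⁻¹) (hR.congr _) := by
  rw [mul_inv_eq_iff_eq_mul]
  refine mat_inj ?_
  rw [mat_mul, mat_mul, mat_levi, mat_lowU, mat_lowU]
  simp [fromBlocks_multiply, Matrix.mul_assoc, Matrix.nonsing_inv_mul _
    (P.isUnit.map Matrix.detMonoidHom)]

theorem levi_conj_up (P : GL (Fin m) F) (S : Mat) (hS : IsAlt S) :
    leviIso P * upU S hS * (leviIso P)⁻¹ = upU ((P : Mat) * S * (P : Mat)ᵀ) (hS.congr' _) := by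
  rw [mul_inv_eq_iff_eq_mul]
  refine mat_inj ?_
  rw [mat_mul, mat_mul, mat_levi, mat_upU, mat_upU]
  simp [fromBlocks_multiply, Matrix.mul_assoc, ← transpose_mul, Matrix.nonsing_inv_mul _
    (P.isUnit.map Matrix.detMonoidHom)]

variable [Fintype F]

theorem exists_scalar (hq : 4 ≤ Fintype.card F) :
    ∃ t : Fˣ, (t : F) * t - 1 ≠ 0 ∧ ((t⁻¹ : Fˣ) : F) * (t⁻¹ : Fˣ) - 1 ≠ 0 := by
  classical
  obtain ⟨t, -, ht⟩ := Finset.exists_mem_notMem_of_card_lt_card (s := ({0, 1, -1} : Finset F))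
    (t := Finset.univ) (lt_of_le_of_lt Finset.card_le_three (by rw [Finset.card_univ]; omega))
  simp only [Finset.mem_insert, Finset.mem_singleton, not_or] at ht
  have h : t * t - 1 ≠ 0 := fun h => by
    rcases mul_eq_zero.1 (show (t - 1) * (t + 1) = 0 by linear_combination h) with h' | h'
    exacts [ht.2.1 (sub_eq_zero.1 h'), ht.2.2 (eq_neg_of_add_eq_zero_left h')]
  refine ⟨Units.mk0 t ht.1, h, fun h' => h ?_⟩
  simp only [Units.val_inv_eq_inv_val, Units.val_mk0] at h'
  field_simp [ht.1] at h'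
  linear_combination -h'

/-- a scalar matrix -/
noncomputable def scal (m : ℕ) (t : Fˣ) : GL (Fin m) F :=
  GeneralLinearGroup.mkOfDetNeZero ((t : F) • (1 : Matrix (Fin m) (Fin m) F)) (by simp)

theorem scal_val (t : Fˣ) : ((scal m t : GL (Fin m) F) : Mat) = (t : F) • 1 := rfl

theorem scal_inv (t : Fˣ) : ((scal m t : GL (Fin m) F) : Mat)⁻¹ = ((t⁻¹ : Fˣ) : F) • 1 := by
  refine Matrix.inv_eq_right_inv ?_
  rw [scal_val, Matrix.smul_mul, Matrix.one_mul, smul_smul, Units.mul_inv, one_smul]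

theorem lowU_mem (hq : 4 ≤ Fintype.card F) (R : Mat) (hR : IsAlt R) : lowU R hR ∈ GG := by
  obtain ⟨t, -, ht⟩ := exists_scalar hq
  set e : F := ((t⁻¹ : Fˣ) : F) * (t⁻¹ : Fˣ) - 1
  have h : lowU R hR = leviIso (scal m t) * lowU (e⁻¹ • R) (hR.smul _) * (leviIso (scal m t))⁻¹ *
      (lowU (e⁻¹ • R) (hR.smul _))⁻¹ := by
    rw [levi_conj_low, lowU_inv]
    refine mat_inj ?_
    rw [mat_mul, mat_lowU, mat_lowU, mat_lowU, scal_inv]
    have he : ((t⁻¹ : Fˣ) : F) * (((t⁻¹ : Fˣ) : F) * e⁻¹) + -e⁻¹ = 1 := by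
      rw [← mul_assoc, ← sub_eq_add_neg, ← sub_one_mul]
      exact mul_inv_cancel₀ ht
    simp only [fromBlocks_multiply, transpose_smul, transpose_one, Matrix.smul_mul, Matrix.mul_smul,
      Matrix.one_mul, Matrix.mul_one, Matrix.zero_mul, Matrix.mul_zero, add_zero, zero_add,
      smul_smul, ← neg_smul, ← add_smul]
    rw [show ((t⁻¹ : Fˣ) : F) * (e⁻¹ * ((t⁻¹ : Fˣ) : F)) + -e⁻¹ = 1 by rw [← he]; ring,
      one_smul]
    simp
  rw [h]
  exact Subgroup.commutator_mem_commutator (Subgroup.mem_top _) (Subgroup.mem_top _)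

theorem upU_mem (hq : 4 ≤ Fintype.card F) (S : Mat) (hS : IsAlt S) : upU S hS ∈ GG := by
  obtain ⟨t, ht, -⟩ := exists_scalar hq
  set e : F := (t : F) * t - 1
  have h : upU S hS = leviIso (scal m t) * upU (e⁻¹ • S) (hS.smul _) * (leviIso (scal m t))⁻¹ *
      (upU (e⁻¹ • S) (hS.smul _))⁻¹ := by
    rw [levi_conj_up, upU_inv]
    refine mat_inj ?_
    rw [mat_mul, mat_upU, mat_upU, mat_upU, scal_val]
    have he : (t : F) * t * e⁻¹ + -e⁻¹ = 1 := by
      rw [← sub_eq_add_neg, ← sub_one_mul]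
      exact mul_inv_cancel₀ ht
    simp only [fromBlocks_multiply, transpose_smul, transpose_one, Matrix.smul_mul, Matrix.mul_smul,
      Matrix.one_mul, Matrix.mul_one, Matrix.zero_mul, Matrix.mul_zero, add_zero, zero_add,
      smul_smul, ← neg_smul, ← add_smul]
    rw [show -e⁻¹ + (t : F) * (e⁻¹ * t) = 1 by rw [← he]; ring, one_smul]
    simp
  rw [h]
  exact Subgroup.commutator_mem_commutator (Subgroup.mem_top _) (Subgroup.mem_top _)

theorem nonde (hq : 4 ≤ Fintype.card F) :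
    Fintype.card F ≠ 2 ∨ Fintype.card (Fin m ⊕ Fin m) ≠ 4 := Or.inl (by omega)

theorem levi_mem_iff (hq : 4 ≤ Fintype.card F) (P : GL (Fin m) F) :
    leviIso P ∈ GG ↔ IsSquare (P : Mat).det := by
  rw [mem_omega_iff (plusQ_nondeg F m) (nonde hq), theta_levi, Prod.mk_eq_one, chi_eq_one_iff]
  simp

/-- square determinant -/
def HH (F : Type*) [Field F] (m : ℕ) : Subgroup (GL (Fin m) F) :=
  (Subgroup.square Fˣ).comap (Matrix.GeneralLinearGroup.det)

theorem mem_HH {P : GL (Fin m) F} : P ∈ HH F m ↔ IsSquare (P : Mat).det := by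
  simp only [HH, Subgroup.mem_comap, Subgroup.mem_square]
  constructor
  · rintro ⟨r, hr⟩
    exact ⟨r, by rw [← Units.val_mul, ← hr]; rfl⟩
  · rintro ⟨r, hr⟩
    have hr0 : r ≠ 0 := by
      rintro rfl
      rw [mul_zero] at hr
      exact (P.isUnit.map Matrix.detMonoidHom).ne_zero hr
    exact ⟨Units.mk0 r hr0, Units.ext hr⟩

/-- the Levi subgroup of `Ω` -/
noncomputable def LG (hq : 4 ≤ Fintype.card F) : HH F m →* Cfsg.Omega F ⇑(plusQ F m) :=
  ((leviIso (F := F) (m := m)).comp (HH F m).subtype).codRestrict _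
    fun P => (levi_mem_iff hq _).2 (mem_HH.1 P.2)

theorem LG_val (hq : 4 ≤ Fintype.card F) (P : HH F m) :
    ((LG hq P : GG) : OO) = leviIso (P : GL (Fin m) F) := rfl

/-- the lower radical -/
def LoG (F : Type*) [Field F] (m : ℕ) : Subgroup (Cfsg.Omega F ⇑(plusQ F m)) where
  carrier := {g | ∃ (R : Matrix (Fin m) (Fin m) F) (hR : IsAlt R), g.1 = lowU R hR}
  one_mem' := ⟨0, IsAlt.zero, mat_inj (by rw [mat_lowU]; exact fromBlocks_one.symm)⟩
  mul_mem' := by
    rintro a b ⟨R, hR, ha⟩ ⟨R', hR', hb⟩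
    exact ⟨R + R', hR.add hR', by
      rw [Subgroup.coe_mul, ha, hb]
      exact mat_inj (by rw [mat_mul, mat_lowU, mat_lowU, mat_lowU]; simp [fromBlocks_multiply])⟩
  inv_mem' := by
    rintro a ⟨R, hR, ha⟩
    exact ⟨-R, hR.neg, by rw [Subgroup.coe_inv, ha, lowU_inv]⟩

/-- the upper radical -/
def UpG (F : Type*) [Field F] (m : ℕ) : Subgroup (Cfsg.Omega F ⇑(plusQ F m)) where
  carrier := {g | ∃ (S : Matrix (Fin m) (Fin m) F) (hS : IsAlt S), g.1 = upU S hS}
  one_mem' := ⟨0, IsAlt.zero, mat_inj (by rw [mat_upU]; exact fromBlocks_one.symm)⟩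
  mul_mem' := by
    rintro a b ⟨R, hR, ha⟩ ⟨R', hR', hb⟩
    exact ⟨R' + R, hR'.add hR, by
      rw [Subgroup.coe_mul, ha, hb]
      exact mat_inj (by rw [mat_mul, mat_upU, mat_upU, mat_upU]; simp [fromBlocks_multiply])⟩
  inv_mem' := by
    rintro a ⟨R, hR, ha⟩
    exact ⟨-R, hR.neg, by rw [Subgroup.coe_inv, ha, upU_inv]⟩

/-! ### Relations between the blocks -/

theorem col_rel {g : OO} {A B C D : Mat} (hg : mat g = fromBlocks A B C D) (x : Fin m → F) :
    (A *ᵥ x) ⬝ᵥ (C *ᵥ x) = 0 ∧ (B *ᵥ x) ⬝ᵥ (D *ᵥ x) = 0 := by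
  constructor
  · have h := mat_preserves g (Sum.elim x 0)
    simpa [hg, qval, fromBlocks_mulVec] using h
  · have h := mat_preserves g (Sum.elim 0 x)
    simpa [hg, qval, fromBlocks_mulVec] using h

theorem mixed_rel {g : OO} {A B C D : Mat} (hg : mat g = fromBlocks A B C D) :
    Aᵀ * D + Cᵀ * B = 1 := by
  have h : ∀ x y : Fin m → F, (A *ᵥ x) ⬝ᵥ (D *ᵥ y) + (B *ᵥ y) ⬝ᵥ (C *ᵥ x) = x ⬝ᵥ y := by
    intro x y
    have h := mat_preserves g (Sum.elim x y)
    simp [hg, qval, fromBlocks_mulVec, dotProduct_add, (col_rel hg x).1, (col_rel hg y).2] at h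
    linear_combination h
  ext i j
  have := h (Pi.single i 1) (Pi.single j 1)
  simp [dotProduct, Matrix.col] at this
  rw [Matrix.add_apply, Matrix.mul_apply, Matrix.mul_apply, Matrix.one_apply]
  simp only [Matrix.transpose_apply]
  rw [Finset.sum_congr rfl fun z _ => mul_comm (C z i) (B z j)]
  rw [this]
  simp [Pi.single_apply, eq_comm]

theorem inv_val {g : OO} {A B C D : Mat} (hg : mat g = fromBlocks A B C D) :
    mat g⁻¹ = fromBlocks Dᵀ Bᵀ Cᵀ Aᵀ := by
  have hD : IsAlt (Dᵀ * B) := fun x => by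
    rw [← mulVec_mulVec, dotProduct_mulVec, vecMul_transpose, dotProduct_comm]
    exact (col_rel hg x).2
  have hC : IsAlt (Cᵀ * A) := fun x => by
    rw [← mulVec_mulVec, dotProduct_mulVec, vecMul_transpose, dotProduct_comm]
    exact (col_rel hg x).1
  have h22 : Cᵀ * B + Aᵀ * D = 1 := by rw [add_comm]; exact mixed_rel hg
  have h11 : Dᵀ * A + Bᵀ * C = 1 := by
    have := congrArg Matrix.transpose (mixed_rel hg)
    simpa [transpose_add, transpose_mul] using this
  have h12 : Dᵀ * B + Bᵀ * D = 0 := by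
    have := hD.transpose
    rw [transpose_mul, transpose_transpose] at this
    rw [this, add_neg_cancel]
  have h21 : Cᵀ * A + Aᵀ * C = 0 := by
    have := hC.transpose
    rw [transpose_mul, transpose_transpose] at this
    rw [this, add_neg_cancel]
  have h1 : fromBlocks Dᵀ Bᵀ Cᵀ Aᵀ * mat g = 1 := by
    rw [hg, fromBlocks_multiply, h11, h12, h21, h22, fromBlocks_one]
  have h2 : mat g⁻¹ * mat g = 1 := by rw [← mat_mul, inv_mul_cancel, mat_one]
  calc mat g⁻¹ = mat g⁻¹ * (mat g * fromBlocks Dᵀ Bᵀ Cᵀ Aᵀ) := by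
        rw [mul_eq_one_comm.1 h1, Matrix.mul_one]
    _ = _ := by rw [← Matrix.mul_assoc, h2, Matrix.one_mul]

theorem conj_upU {A B C D S : Mat} (hS : IsAlt S) {g : OO} (hg : mat g = fromBlocks A B C D) :
    mat (upU S hS * g * (upU S hS)⁻¹) =
      fromBlocks (A + S * C) (-((A + S * C) * S) + (B + S * D)) C (-(C * S) + D) := by
  rw [upU_inv, mat_mul, mat_mul, hg, mat_upU, mat_upU]
  simp [fromBlocks_multiply]

theorem conj_lowU {A B C D R : Mat} (hR : IsAlt R) {g : OO} (hg : mat g = fromBlocks A B C D) :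
    mat (lowU R hR * g * (lowU R hR)⁻¹) =
      fromBlocks (A - B * R) B (R * A + C - (R * B + D) * R) (R * B + D) := by
  rw [lowU_inv, mat_mul, mat_mul, hg, mat_lowU, mat_lowU]
  simp [fromBlocks_multiply, sub_eq_add_neg]

/-- the swap -/
noncomputable def swap (F : Type*) [Field F] [Fintype F] (m : ℕ)
    (h : Fintype.card F ≠ 2 ∨ Fintype.card (Fin m ⊕ Fin m) ≠ 4) : Cfsg.isometryGroup F ⇑(plusQ F m) :=
  (exists_swap (F := F) (m := m) h).choose

theorem swap_mat (hq : 4 ≤ Fintype.card F) :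
    mat (swap F m (nonde hq)) = fromBlocks 0 1 1 0 := by
  have h := (exists_swap (F := F) (m := m) (nonde hq)).choose_spec.1
  refine Matrix.toLin'.injective (LinearMap.ext fun v => ?_)
  rw [Matrix.toLin'_apply, Matrix.toLin'_apply, fromBlocks_mulVec]
  have := h v
  rw [act_apply] at this
  rw [show mat (swap F m (nonde hq)) *ᵥ v = v ∘ Sum.swap from this]
  funext z
  rcases z with i | i <;> simp

theorem swap_theta (hq : 4 ≤ Fintype.card F) :
    theta (plusQ_nondeg F m) (nonde hq) (swap F m (nonde hq)) = ((-1) ^ m, chi ((-1 : F) ^ m)) :=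
  (exists_swap (F := F) (m := m) (nonde hq)).choose_spec.2

theorem swap_conj (hq : 4 ≤ Fintype.card F) {A B C D : Mat} {g : OO}
    (hg : mat g = fromBlocks A B C D) :
    mat (swap F m (nonde hq) * g * (swap F m (nonde hq))⁻¹) = fromBlocks D C B A := by
  have h2 : (swap F m (nonde hq))⁻¹ = swap F m (nonde hq) := inv_eq_of_mul_eq_one_right (mat_inj (by
    rw [mat_mul, swap_mat hq, mat_one]; simp [fromBlocks_multiply, fromBlocks_one]))
  rw [h2, mat_mul, mat_mul, hg, swap_mat hq]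
  simp [fromBlocks_multiply]

/-! ### An invertible corner -/

theorem nullity_ne_one (hq : 4 ≤ Fintype.card F) {g : OO} (hg : g ∈ GG) {A B C D : Mat}
    (hv : mat g = fromBlocks A B C D) :
    Module.finrank F (LinearMap.ker (Matrix.toLin' A)) ≠ 1 := by
  classical
  intro h1
  have hθ := (mem_omega_iff (plusQ_nondeg F m) (nonde hq) g).1 hg
  set σ := swap F m (nonde hq)
  have hpar : par (σ * g) = (-1) ^ m := by
    rw [← theta_fst (plusQ_nondeg F m) (nonde hq), map_mul, hθ, mul_one, swap_theta hq]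
  rw [par_eq_neg_one_pow (plusQ_nondeg F m) (nonde hq) (m := m) (by simp [two_mul]) U0_singular
    finrank_U0] at hpar
  let j₀ : (Fin m → F) →ₗ[F] (Fin m ⊕ Fin m → F) :=
    { toFun := fun x => Sum.elim x 0
      map_add' := fun x y => by ext (i | i) <;> simp
      map_smul' := fun c x => by ext (i | i) <;> simp }
  let j : (Fin m → F) →ₗ[F] (Fin m ⊕ Fin m → F) := (act (σ * g)).comp j₀
  have hj : ∀ x, j x = Sum.elim (C *ᵥ x) (A *ᵥ x) := fun x => by
    show act (σ * g) (Sum.elim x 0) = _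
    rw [act_apply, show (((σ * g : OO) : GL (Fin m ⊕ Fin m) F) : Matrix (Fin m ⊕ Fin m)
      (Fin m ⊕ Fin m) F) = mat σ * mat g from rfl, swap_mat hq, hv]
    simp [fromBlocks_multiply, fromBlocks_mulVec]
  have hjinj : Function.Injective j := by
    intro x y hxy
    have h := act_injective (σ * g) hxy
    funext i
    exact congrFun h (Sum.inl i)
  have himg : U0 ⊓ (U0 : Submodule F (Fin m ⊕ Fin m → F)).map (act (σ * g)) =
      (LinearMap.ker (Matrix.toLin' A)).map j := by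
    apply le_antisymm
    · rintro _ ⟨h0, v, hv', rfl⟩
      have hv0 : v = Sum.elim (v ∘ Sum.inl) 0 := by
        funext z; rcases z with i | i
        · rfl
        · exact mem_U0.1 hv' i
      refine ⟨v ∘ Sum.inl, ?_, congrArg (act (σ * g)) hv0.symm⟩
      refine LinearMap.mem_ker.2 (funext fun i => ?_)
      have h2 := mem_U0.1 h0 i
      rw [hv0, show act (σ * g) (Sum.elim (v ∘ Sum.inl) 0) = j (v ∘ Sum.inl) from rfl, hj] at h2
      simpa using h2
    · rintro _ ⟨x, hx, rfl⟩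
      refine ⟨mem_U0.2 fun i => ?_, Sum.elim x 0, mem_U0.2 fun i => rfl, rfl⟩
      rw [hj]
      simpa using congrFun (LinearMap.mem_ker.1 hx) i
  rw [himg, ← (Submodule.equivMapOfInjective j hjinj _).finrank_eq, h1] at hpar
  rcases Nat.eq_zero_or_pos m with h0 | h0
  · subst h0
    have := (LinearMap.ker (Matrix.toLin' A)).finrank_le
    rw [h1, Module.finrank_pi, Fintype.card_fin] at this
    omega
  rw [show m = m - 1 + 1 by omega, pow_succ, Nat.add_sub_cancel] at hpar
  have := mul_left_cancel (a := ((-1 : ℤˣ)) ^ (m - 1)) (hpar.symm.trans (mul_one _).symm)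
  exact absurd this (by decide)

theorem exists_dual_vec {k₁ k₂ : Fin m → F} (h : k₁ ∉ Submodule.span F ({k₂} : Set (Fin m → F))) :
    ∃ u : Fin m → F, u ⬝ᵥ k₁ = 1 ∧ u ⬝ᵥ k₂ = 0 := by
  classical
  obtain ⟨φ, h1, h2⟩ := Cfsg.Agent.Classical.Thompson.exists_dual_one _ h
  have e : ∀ x : Fin m → F, (fun i => φ (Pi.single i 1)) ⬝ᵥ x = φ x := fun x => by
    conv_rhs => rw [pi_eq_sum_univ' x, map_sum]
    simp [dotProduct, mul_comm]
  exact ⟨_, (e k₁).trans h1, (e k₂).trans (h2 k₂ (Submodule.mem_span_singleton_self k₂))⟩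

theorem exists_invertible (hq : 4 ≤ Fintype.card F) (g : GG) :
    ∃ h : GG, (mat (h * g * h⁻¹ : GG).1).toBlocks₁₁.det ≠ 0 := by
  classical
  suffices H : ∀ n : ℕ, ∀ g : GG,
      Module.finrank F (LinearMap.ker (Matrix.toLin' (mat g.1).toBlocks₁₁)) ≤ n →
      ∃ h : GG, (mat (h * g * h⁻¹ : GG).1).toBlocks₁₁.det ≠ 0 from H _ g le_rfl
  intro n
  induction n with
  | zero =>
    intro g hg
    refine ⟨1, fun h0 => ?_⟩
    rw [one_mul, inv_one, mul_one] at h0
    obtain ⟨x, hx0, hx⟩ := Matrix.exists_mulVec_eq_zero_iff.2 h0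
    have := Submodule.finrank_eq_zero.1 (Nat.le_zero.1 hg)
    exact hx0 ((Submodule.mem_bot F).1 (this ▸ LinearMap.mem_ker.2 hx))
  | succ n ih =>
    intro g hg
    obtain ⟨A, B, C, D, hgv⟩ : ∃ A B C D, mat g.1 = fromBlocks A B C D :=
      ⟨_, _, _, _, (fromBlocks_toBlocks _).symm⟩
    rw [hgv, toBlocks_fromBlocks₁₁] at hg
    by_cases hA : A.det ≠ 0
    · exact ⟨1, by simpa [hgv] using hA⟩
    push Not at hA
    obtain ⟨k₂, hk20, hk2⟩ := Matrix.exists_mulVec_eq_zero_iff.2 hA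
    obtain ⟨k₁, hk1, hk12⟩ : ∃ k₁, A *ᵥ k₁ = 0 ∧ k₁ ∉ Submodule.span F ({k₂} : Set (Fin m → F)) := by
      by_contra hall
      push Not at hall
      refine nullity_ne_one hq g.2 hgv ?_
      have : LinearMap.ker (Matrix.toLin' A) = Submodule.span F ({k₂} : Set (Fin m → F)) :=
        le_antisymm (fun x hx => hall x (LinearMap.mem_ker.1 hx))
          ((Submodule.span_singleton_le_iff_mem _ _).2 (LinearMap.mem_ker.2 hk2))
      rw [this, finrank_span_singleton hk20]
    have hk21 : k₂ ∉ Submodule.span F ({k₁} : Set (Fin m → F)) := by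
      rw [Submodule.mem_span_singleton] at hk12 ⊢
      rintro ⟨a, ha⟩
      rcases eq_or_ne a 0 with rfl | ha0
      · exact hk20 (by rw [← ha, zero_smul])
      · exact hk12 ⟨a⁻¹, by rw [← ha, smul_smul, inv_mul_cancel₀ ha0, one_smul]⟩
    obtain ⟨u, hu1, hu2⟩ := exists_dual_vec hk12
    obtain ⟨v, hv2, hv1⟩ := exists_dual_vec hk21
    have hR := isAlt_alt2 u v
    let L : GG := ⟨lowU _ hR, lowU_mem hq _ hR⟩
    have hval : mat (L * g * L⁻¹ : GG).1 =
        fromBlocks (A - B * alt2 u v) B (alt2 u v * A + C - (alt2 u v * B + D) * alt2 u v)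
          (alt2 u v * B + D) := conj_lowU hR hgv
    obtain ⟨h', hh'⟩ := ih (L * g * L⁻¹) (by
      rw [hval, toBlocks_fromBlocks₁₁]
      have hCA : IsAlt (Cᵀ * A) := fun x => by
        rw [← mulVec_mulVec, dotProduct_mulVec, vecMul_transpose, dotProduct_comm]
        exact (col_rel hgv x).1
      -- vectors of `B` landing in the image of `A` annihilate the kernel
      have hann : ∀ w y k : Fin m → F, B *ᵥ w = A *ᵥ y → A *ᵥ k = 0 → k ⬝ᵥ w = 0 := by
        intro w y k hwy hk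
        have h1 := congrArg (fun M : Mat => k ⬝ᵥ (M *ᵥ w)) (mixed_rel hgv)
        simp only [add_mulVec, one_mulVec, dotProduct_add, ← mulVec_mulVec] at h1
        rw [dotProduct_mulVec, vecMul_transpose, hk, zero_dotProduct, zero_add, hwy] at h1
        rw [← h1]
        have h2 := congrArg (fun M : Mat => k ⬝ᵥ (M *ᵥ y)) hCA.transpose
        simp only [transpose_mul, transpose_transpose, neg_mulVec, ← mulVec_mulVec,
          dotProduct_neg] at h2
        rw [dotProduct_mulVec k Aᵀ, vecMul_transpose, hk, zero_dotProduct] at h2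
        exact neg_eq_zero.1 h2.symm
      have key : ∀ y, (A - B * alt2 u v) *ᵥ y = 0 →
          u ⬝ᵥ y = 0 ∧ v ⬝ᵥ y = 0 ∧ A *ᵥ y = 0 := by
        intro y hy
        have hRy : alt2 u v *ᵥ y = (v ⬝ᵥ y) • u - (u ⬝ᵥ y) • v := by
          rw [alt2, sub_mulVec, vecMulVec_mulVec, vecMulVec_mulVec]
          funext i; simp [mul_comm]
        rw [sub_mulVec, sub_eq_zero, ← mulVec_mulVec, hRy] at hy
        have a1 := hann _ y k₁ hy.symm hk1
        have a2 := hann _ y k₂ hy.symm hk2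
        rw [dotProduct_sub, dotProduct_smul, dotProduct_smul, dotProduct_comm k₁ u,
          dotProduct_comm k₁ v, hu1, hv1] at a1
        rw [dotProduct_sub, dotProduct_smul, dotProduct_smul, dotProduct_comm k₂ u,
          dotProduct_comm k₂ v, hu2, hv2] at a2
        simp at a1 a2
        exact ⟨a2, a1, by rw [hy, a1, a2]; simp⟩
      refine Nat.le_of_lt_succ (lt_of_lt_of_le (Submodule.finrank_lt_finrank_of_lt ?_) hg)
      refine lt_of_le_of_ne (fun y hy => ?_) fun he => ?_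
      · exact LinearMap.mem_ker.2 (key y (LinearMap.mem_ker.1 hy)).2.2
      · have : k₁ ∈ LinearMap.ker (Matrix.toLin' (A - B * alt2 u v)) := he ▸ LinearMap.mem_ker.2 hk1
        have h0 := (key k₁ (LinearMap.mem_ker.1 this)).1
        rw [hu1] at h0
        exact one_ne_zero h0)
    exact ⟨h' * L, by rwa [show h' * L * g * (h' * L)⁻¹ = h' * (L * g * L⁻¹) * h'⁻¹ by group]⟩

/-! ### Decomposition -/

theorem exists_decomp {g : OO} {A B C D : Mat} (hv : mat g = fromBlocks A B C D) (hA : A.det ≠ 0) :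
    ∃ (X : GL (Fin m) F) (R S : Mat) (hR : IsAlt R) (hS : IsAlt S), (X : Mat) = A ∧ C = R * A ∧
      g = lowU R hR * leviIso X * upU S hS := by
  let X : GL (Fin m) F := GeneralLinearGroup.mkOfDetNeZero A hA
  have hu : IsUnit A.det := isUnit_iff_ne_zero.2 hA
  have hut : IsUnit Aᵀ.det := by rwa [det_transpose]
  have hR : IsAlt (C * A⁻¹) := fun x => by
    have := (col_rel hv (A⁻¹ *ᵥ x)).1
    rwa [mulVec_mulVec, mulVec_mulVec, Matrix.mul_nonsing_inv _ hu, one_mulVec] at this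
  have hS : IsAlt (A⁻¹ * B) := fun x => by
    have := (col_rel (inv_val hv) (A⁻¹ᵀ *ᵥ x)).2
    rw [mulVec_mulVec, mulVec_mulVec, transpose_nonsing_inv, Matrix.mul_nonsing_inv _ hut,
      one_mulVec] at this
    rw [← this, ← mulVec_mulVec, dotProduct_mulVec, dotProduct_comm, ← mulVec_transpose]
    rw [dotProduct_comm ((Bᵀ * Aᵀ⁻¹) *ᵥ x), ← mulVec_mulVec, transpose_nonsing_inv,
      dotProduct_mulVec x Bᵀ, vecMul_transpose]
  refine ⟨X, C * A⁻¹, A⁻¹ * B, hR, hS, rfl, (Matrix.nonsing_inv_mul_cancel_right _ _ hu).symm,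
    mat_inj ?_⟩
  rw [hv, mat_mul, mat_mul, mat_lowU, mat_levi, mat_upU]
  have hX : (X : Mat) = A := rfl
  simp only [hX, fromBlocks_multiply, Matrix.one_mul, Matrix.zero_mul, Matrix.mul_zero, add_zero,
    zero_add, Matrix.mul_one]
  rw [Matrix.mul_nonsing_inv_cancel_left _ _ hu, Matrix.nonsing_inv_mul_cancel_right _ _ hu]
  congr 1
  have h1 := mixed_rel hv
  have hRt := hR.transpose
  rw [transpose_mul, transpose_nonsing_inv] at hRt
  calc D = Aᵀ⁻¹ * (Aᵀ * D) := by rw [Matrix.nonsing_inv_mul_cancel_left _ _ hut]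
    _ = Aᵀ⁻¹ * (1 - Cᵀ * B) := by rw [← h1, add_sub_cancel_right]
    _ = C * A⁻¹ * B + A⁻¹ᵀ := by
      rw [Matrix.mul_sub, Matrix.mul_one, ← Matrix.mul_assoc, hRt, Matrix.neg_mul, sub_neg_eq_add,
        transpose_nonsing_inv, add_comm]
    _ = _ := by rw [transpose_nonsing_inv, Matrix.mul_assoc]

/-! ### The class -/

theorem cov_state (hq : 4 ≤ Fintype.card F) (hm : 3 ≤ m) (b : HH F m) (s : F)
    (hb : ∀ A : Mat, A.det = s ^ 2 → (∀ a : F, A ≠ a • 1) → ∃ P Q : HH F m,
      A = ((P * b * P⁻¹ * (Q * b * Q⁻¹) : HH F m).1 : Mat))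
    (fLo : ∀ v ∈ LoG F m, LG hq b * v = v * LG hq b → v = 1)
    (fUp : ∀ v ∈ UpG F m, LG hq b * v = v * LG hq b → v = 1)
    (g : GG) (A B C D : Mat) (hv : mat g.1 = fromBlocks A B C D) (hA : A.det ≠ 0) (hC : C ≠ 0)
    (hs : s ≠ 0) : Cov (LG hq b) g := by
  classical
  -- finish
  have fin : ∀ (g : GG) (A B C D : Mat), mat g.1 = fromBlocks A B C D → A.det = s ^ 2 →
      (∀ a : F, A ≠ a • 1) → Cov (LG hq b) g := by
    intro g A B C D hv hd hns
    obtain ⟨X, R, S, hR, hS, hX, -, hdec⟩ := exists_decomp hv (by rw [hd]; exact pow_ne_zero 2 hs)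
    obtain ⟨P, Q, hPQ⟩ := hb A hd hns
    refine cov_gauss (LG hq) (LoG F m) (UpG F m) ?_ ?_ b fLo fUp
      (v := ⟨lowU R hR, lowU_mem hq R hR⟩) (u := ⟨upU S hS, upU_mem hq S hS⟩)
      ⟨R, hR, rfl⟩ ⟨S, hS, rfl⟩ P Q (Subtype.ext ?_)
    · rintro h v ⟨R', hR', hv'⟩
      exact ⟨_, hR'.congr _, by
        rw [Subgroup.coe_mul, Subgroup.coe_mul, Subgroup.coe_inv, LG_val, hv', levi_conj_low]⟩
    · rintro h v ⟨R', hR', hv'⟩
      exact ⟨_, hR'.congr' _, by
        rw [Subgroup.coe_mul, Subgroup.coe_mul, Subgroup.coe_inv, LG_val, hv', levi_conj_up]⟩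
    · rw [hdec, Subgroup.coe_mul, Subgroup.coe_mul, LG_val]
      congr 3
      exact Units.ext (hX.trans hPQ)
  -- from a non-scalar block
  have main : ∀ (g : GG) (A B C D : Mat), mat g.1 = fromBlocks A B C D → A.det ≠ 0 → C ≠ 0 →
      (∀ a : F, A ≠ a • 1) → Cov (LG hq b) g := by
    intro g A B C D hv hA hC hns
    obtain ⟨X, R, S, hR, hS, hX, hCR, hdec⟩ := exists_decomp hv hA
    have hXmem : leviIso X ∈ GG := by
      have hm' : lowU R hR * leviIso X * upU S hS ∈ GG := hdec ▸ g.2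
      exact (Subgroup.mul_mem_cancel_left _ (lowU_mem hq R hR)).1
        ((Subgroup.mul_mem_cancel_right _ (upU_mem hq S hS)).1 hm')
    obtain ⟨r, hr⟩ := (levi_mem_iff hq X).1 hXmem
    rw [hX] at hr
    have hr0 : r ≠ 0 := fun h0 => hA (by rw [hr, h0, mul_zero])
    have hR0 : R ≠ 0 := fun h0 => hC (by rw [hCR, h0, Matrix.zero_mul])
    obtain ⟨S', hS', hd, hns'⟩ := alt_target hq hm hR hR0 hns (s * r⁻¹)
    let U : GG := ⟨upU S' hS', upU_mem hq S' hS'⟩
    refine Cov.conj U (fin (U * g * U⁻¹) _ _ _ _ (conj_upU hS' hv) ?_ ?_)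
    · rw [hCR, ← Matrix.mul_assoc, ← one_add_mul, det_mul, hd, hr]
      field_simp
    · intro a ha
      refine hns' a ?_
      rw [← ha, hCR, Matrix.add_mul, Matrix.one_mul, Matrix.mul_assoc]
  by_cases hns : ∀ a : F, A ≠ a • 1
  · exact main g A B C D hv hA hC hns
  push Not at hns
  obtain ⟨a, ha⟩ := hns
  obtain ⟨X, R, S, hR, hS, hX, hCR, hdec⟩ := exists_decomp hv hA
  have hR0 : R ≠ 0 := fun h0 => hC (by rw [hCR, h0, Matrix.zero_mul])
  obtain ⟨S', hS', hd, hns'⟩ := alt_perturb hq hm hR hR0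
  let U : GG := ⟨upU S' hS', upU_mem hq S' hS'⟩
  refine Cov.conj U (main (U * g * U⁻¹) _ _ _ _ (conj_upU hS' hv) ?_ hC ?_)
  · rw [hCR, ← Matrix.mul_assoc, ← one_add_mul, det_mul]
    exact mul_ne_zero hd hA
  · intro c hc
    have ha0 := det_eq_zero_of_smul (by omega) ha hA
    rw [hCR, ← Matrix.mul_assoc, ← one_add_mul, ha, Matrix.mul_smul, Matrix.mul_one] at hc
    refine hns' (a⁻¹ * c) ?_
    rw [← smul_smul, ← hc, smul_smul, inv_mul_cancel₀ ha0, one_smul]

theorem exists_class (hF : 9 ≤ Fintype.card F) (m : ℕ) (hm : 4 ≤ m) {G : Type*} [Group G]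
    (e : G ≃* Cfsg.POmega F (Cfsg.quadFormPlus m F)) :
    ∃ c : G, ∀ g : G, ∃ x y : G, g = (x * c * x⁻¹) * (y * c * y⁻¹) := by
  classical
  revert e
  rw [← Cfsg.Agent.Classical.OrthForms.plusQ_eq m]
  intro e
  obtain ⟨k, rfl⟩ : ∃ k, m = 1 + k := ⟨m - 1, by omega⟩
  have hq : 4 ≤ Fintype.card F := by omega
  have hK : 4 ≤ Cardinal.mk F := by
    rw [Cardinal.mk_fintype]; exact_mod_cast hq
  obtain ⟨z, hz⟩ := IsCyclic.exists_generator (α := Fˣ)
  have ho : 8 ≤ orderOf z := by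
    rw [orderOf_eq_card_of_forall_mem_zpowers hz, Nat.card_eq_fintype_card, Fintype.card_units]
    omega
  have hpw : ∀ i : ℕ, 0 < i → i < 8 → (z : F) ^ i ≠ 1 := fun i h0 h8 hi => by
    have : orderOf z ∣ i := orderOf_dvd_of_pow_eq_one (Units.ext (by simpa using hi))
    have := Nat.le_of_dvd h0 this
    omega
  have hγ : (z : F) ≠ 1 := fun h => hpw 1 (by omega) (by omega) (by rw [pow_one]; exact h)
  obtain ⟨d, c, hdc, hdc1, hcc, hd, hsq, hev⟩ : ∃ d c : Fˣ, (d : F) ≠ c ∧ (d : F) * c ≠ 1 ∧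
      (c : F) * c ≠ 1 ∧ (d : F) ≠ 0 ∧ IsSquare ((d : F) * (c : F) ^ k) ∧
      (Even (1 + k) ∨ (d : F) = 1) := by
    rcases Nat.even_or_odd k with hk | hk
    · refine ⟨1, z, ?_, ?_, ?_, one_ne_zero, ?_, Or.inr rfl⟩
      · exact Ne.symm hγ
      · simpa using hγ
      · simpa [← pow_two] using hpw 2 (by omega) (by omega)
      · simpa using hk.isSquare_pow (z : F)
    · refine ⟨z, z ^ 3, ?_, ?_, ?_, z.ne_zero, ?_, Or.inl (by rw [add_comm]; exact hk.add_one)⟩
      · intro h
        refine hpw 2 (by omega) (by omega) ?_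
        rw [Units.val_pow_eq_pow_val] at h
        refine mul_left_cancel₀ z.ne_zero ?_
        rw [mul_one, ← pow_succ', ← h]
      · rw [Units.val_pow_eq_pow_val, ← pow_succ']; exact hpw 4 (by omega) (by omega)
      · rw [Units.val_pow_eq_pow_val, ← pow_add]; exact hpw 6 (by omega) (by omega)
      · rw [Units.val_pow_eq_pow_val, ← pow_mul, ← pow_succ']
        exact Even.isSquare_pow (by
          obtain ⟨j, rfl⟩ := hk
          exact ⟨3 * j + 2, by ring⟩) _
  set b : HH F (1 + k) := ⟨bGL d c k, mem_HH.2 (by rw [bGL_val, blockB_det]; exact hsq)⟩ with hb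
  have hbval : ((b : GL (Fin (1 + k)) F) : Matrix (Fin (1 + k)) (Fin (1 + k)) F) =
      blockB (d : F) c k := rfl
  have memSL : ∀ {P : GL (Fin (1 + k)) F},
      (P : Matrix (Fin (1 + k)) (Fin (1 + k)) F).det = 1 → P ∈ HH F (1 + k) := fun h =>
    mem_HH.2 (by rw [h]; exact IsSquare.one)
  have hblk : ∀ {R : Matrix (Fin (1 + k)) (Fin (1 + k)) F}, IsAlt R →
      (d : F) * d ≠ 1 ∨ R 0 0 = 0 := fun h => Or.inr (h.diag 0)
  have hu : IsUnit (blockB (d : F) c k).det := by rw [blockB_det]; simp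
  -- reality
  obtain ⟨w, hw⟩ : ∃ w : Cfsg.Omega F ⇑(plusQ F (1 + k)),
      (w : Cfsg.isometryGroup F ⇑(plusQ F (1 + k))) * leviIso (b : GL (Fin (1 + k)) F) *
        (w : Cfsg.isometryGroup F ⇑(plusQ F (1 + k)))⁻¹ =
      swap F (1 + k) (nonde hq) * leviIso (b : GL (Fin (1 + k)) F) *
        (swap F (1 + k) (nonde hq))⁻¹ := by
    rcases Nat.even_or_odd (1 + k) with hk | hk
    · refine ⟨⟨swap F (1 + k) (nonde hq), (mem_omega_iff (plusQ_nondeg F _) (nonde hq) _).2 ?_⟩, rfl⟩
      rw [swap_theta hq, hk.neg_one_pow, hk.neg_one_pow, chi_one]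
      rfl
    · have hd1 : (d : F) = 1 := by
        rcases hev with h | h
        · exact absurd h (Nat.not_even_iff_odd.2 hk)
        · exact h
      set v : Fin (1 + k) ⊕ Fin (1 + k) → F :=
        Pi.single (Sum.inl 0) 1 - Pi.single (Sum.inr 0) 1 with hvdef
      have hQ : plusQ F (1 + k) v = -1 := by
        simp [v, plusQ_apply, Cfsg.quadFormPlus, Pi.single_apply]
      refine ⟨⟨swap F (1 + k) (nonde hq) * reflect (plusQ F (1 + k)) v,
        (mem_omega_iff (plusQ_nondeg F _) (nonde hq) _).2 ?_⟩, ?_⟩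
      · rw [map_mul, swap_theta hq, theta_reflect _ _ (by rw [hQ]; simp), hQ, Prod.mk_mul_mk,
          hk.neg_one_pow, hk.neg_one_pow, Int.units_mul_self, Int.units_mul_self]
        rfl
      have hfix : act (leviIso (b : GL (Fin (1 + k)) F)) v = v := by
        rw [act_levi, hbval]
        have hcol : ∀ M : Matrix (Fin (1 + k)) (Fin (1 + k)) F,
            M *ᵥ Pi.single 0 1 = fun i => M i 0 := fun M => by funext i; simp
        have h0 : (0 : Fin (1 + k)) = finSumFinEquiv (Sum.inl (0 : Fin 1)) := rfl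
        have hb1 : (fun i => blockB (d : F) c k i 0) = Pi.single 0 1 := by
          funext i
          obtain ⟨a, rfl⟩ := finSumFinEquiv.surjective i
          rw [h0, blockB, reindex_apply, submatrix_apply, Equiv.symm_apply_apply,
            Equiv.symm_apply_apply, Pi.single_apply]
          simp only [finSumFinEquiv.injective.eq_iff]
          rcases a with a | a
          · simp [blockSum, hd1, Matrix.one_apply, Subsingleton.elim a 0]
          · simp [blockSum]
        have hb2 : (fun i => (blockB (d : F) c k)⁻¹ᵀ i 0) = Pi.single 0 1 := by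
          have hrow : Pi.single 0 1 ᵥ* blockB (d : F) c k = Pi.single 0 1 := by
            funext i
            obtain ⟨a, rfl⟩ := finSumFinEquiv.surjective i
            rw [single_one_vecMul, Matrix.row_apply, h0, blockB, reindex_apply, submatrix_apply,
              Equiv.symm_apply_apply, Equiv.symm_apply_apply, Pi.single_apply]
            simp only [finSumFinEquiv.injective.eq_iff]
            rcases a with a | a
            · simp [blockSum, hd1, Matrix.one_apply, Subsingleton.elim a 0]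
            · simp [blockSum]
          rw [← hcol, mulVec_transpose]
          conv_lhs => rw [← hrow, vecMul_vecMul, Matrix.mul_nonsing_inv _ hu, vecMul_one]
        have e1 : v ∘ Sum.inl = Pi.single 0 1 := by
          funext i; simp [v, Pi.single_apply]
        have e2 : v ∘ Sum.inr = -Pi.single 0 1 := by
          funext i; simp [v, Pi.single_apply]
        rw [e1, e2, mulVec_neg, hcol, hcol, hb1, hb2]
        funext i
        rcases i with i | i <;> simp [v, Pi.single_apply]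
      have hcomm : reflect (plusQ F (1 + k)) v * leviIso (b : GL (Fin (1 + k)) F) *
          (reflect (plusQ F (1 + k)) v)⁻¹ = leviIso (b : GL (Fin (1 + k)) F) := by
        have := Spinor.reflect_conj (leviIso (b : GL (Fin (1 + k)) F)) v
        rw [hfix, mul_inv_eq_iff_eq_mul] at this
        rw [mul_inv_eq_iff_eq_mul]
        exact this.symm
      show swap F (1 + k) (nonde hq) * reflect (plusQ F (1 + k)) v * _ *
        (swap F (1 + k) (nonde hq) * reflect (plusQ F (1 + k)) v)⁻¹ = _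
      rw [_root_.mul_inv_rev]
      conv_rhs => rw [← hcomm]
      group
  obtain ⟨P, hP, hPb⟩ := exists_transpose d c k
  set P' : HH F (1 + k) := ⟨P, memSL hP⟩
  have hswap : swap F (1 + k) (nonde hq) * leviIso (b : GL (Fin (1 + k)) F) *
      (swap F (1 + k) (nonde hq))⁻¹ = leviIso (P * (bGL d c k)⁻¹ * P⁻¹) := by
    refine mat_inj ?_
    rw [swap_conj hq (mat_levi _), mat_levi]
    have hval : ((P * (bGL d c k)⁻¹ * P⁻¹ : GL (Fin (1 + k)) F) :
        Matrix (Fin (1 + k)) (Fin (1 + k)) F) = ((blockB (d : F) c k)ᵀ)⁻¹ := by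
      rw [hPb, ← Matrix.coe_units_inv]
      congr 1
      group
    rw [hval, hbval, Matrix.nonsing_inv_nonsing_inv _ (by rwa [det_transpose]), transpose_transpose,
      transpose_nonsing_inv]
  have : Finite (Cfsg.Omega F ⇑(plusQ F (1 + k))) :=
    Finite.of_injective (fun g => mat g.1) fun g h e => Subtype.ext (mat_inj e)
  -- the swap fixes the class
  let σ : Cfsg.Omega F ⇑(plusQ F (1 + k)) ≃* Cfsg.Omega F ⇑(plusQ F (1 + k)) :=
    MulAut.conjNormal (swap F (1 + k) (nonde hq))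
  have hσ : ∀ g, (σ g : Cfsg.isometryGroup F ⇑(plusQ F (1 + k))) =
      swap F (1 + k) (nonde hq) * g * (swap F (1 + k) (nonde hq))⁻¹ := fun g => rfl
  have hclass : ∃ u : Cfsg.Omega F ⇑(plusQ F (1 + k)), σ (LG hq b) = u * LG hq b * u⁻¹ :=
    ⟨w, Subtype.ext (by
      rw [hσ, Subgroup.coe_mul, Subgroup.coe_mul, Subgroup.coe_inv, LG_val, hw])⟩
  refine exists_of_center_quotient e (LG hq b) ?_ ?_
  · refine ⟨(LG hq P')⁻¹ * w, ?_⟩
    refine Subtype.ext ?_
    simp only [Subgroup.coe_mul, Subgroup.coe_inv, LG_val, _root_.mul_inv_rev, inv_inv]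
    calc _ = (leviIso P)⁻¹ * ((w : Cfsg.isometryGroup F ⇑(plusQ F (1 + k))) *
          leviIso (b : GL (Fin (1 + k)) F) * (w : Cfsg.isometryGroup F ⇑(plusQ F (1 + k)))⁻¹) *
          leviIso P := by
          show (leviIso P)⁻¹ * _ * _ * (_ * leviIso P) = _
          group
      _ = _ := by
          rw [hw, hswap, map_mul, map_mul, map_inv, map_inv]
          show _ = (leviIso (bGL d c k))⁻¹
          group
  intro g hg
  set s : F := (d : F) * (c : F) ^ k with hs
  have hs0 : s ≠ 0 := mul_ne_zero d.ne_zero (pow_ne_zero _ c.ne_zero)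
  have hcov : ∀ (g : Cfsg.Omega F ⇑(plusQ F (1 + k))) (A B C D : Matrix (Fin (1 + k)) (Fin (1 + k)) F),
      mat g.1 = fromBlocks A B C D → A.det ≠ 0 → C ≠ 0 → Cov (LG hq b) g := by
    intro g A B C D hv hA hC
    refine cov_state hq (by omega) b s ?_ ?_ ?_ g A B C D hv hA hC hs0
    · intro A hd hns
      obtain ⟨P, Q, hP, hQ, hA⟩ := exists_two hK d c hdc (by omega) z.ne_zero hγ A hd hns
      exact ⟨⟨P, memSL hP⟩, ⟨Q, memSL hQ⟩, hA⟩
    · rintro v ⟨R, hR, hv⟩ hcm
      have hc := congrArg (fun x : Cfsg.Omega F ⇑(plusQ F (1 + k)) => (mat x.1).toBlocks₂₁) hcm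
      simp only [Subgroup.coe_mul, LG_val, hv, mat_mul, mat_levi, mat_lowU, fromBlocks_multiply,
        toBlocks_fromBlocks₂₁, Matrix.zero_mul, Matrix.mul_zero, Matrix.one_mul, Matrix.mul_one,
        zero_add, add_zero, hbval] at hc
      have hR0 : R = 0 := fix_form hdc1 hcc (hblk hR) (by
        rw [Matrix.mul_assoc, ← hc, ← Matrix.mul_assoc, ← transpose_mul,
          Matrix.nonsing_inv_mul _ hu, transpose_one, Matrix.one_mul])
      refine Subtype.ext (mat_inj ?_)
      rw [hv, mat_lowU, hR0]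
      exact fromBlocks_one
    · rintro v ⟨R, hR, hv⟩ hcm
      have hc := congrArg (fun x : Cfsg.Omega F ⇑(plusQ F (1 + k)) => (mat x.1).toBlocks₁₂) hcm
      simp only [Subgroup.coe_mul, LG_val, hv, mat_mul, mat_levi, mat_upU, fromBlocks_multiply,
        toBlocks_fromBlocks₁₂, Matrix.zero_mul, Matrix.mul_zero, Matrix.one_mul, Matrix.mul_one,
        zero_add, add_zero, hbval] at hc
      have hR0 : R = 0 := fix_form' hdc1 hcc (hblk hR) (by
        rw [hc, Matrix.mul_assoc, ← transpose_mul, Matrix.mul_nonsing_inv _ hu, transpose_one,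
          Matrix.mul_one])
      refine Subtype.ext (mat_inj ?_)
      rw [hv, mat_upU, hR0]
      exact fromBlocks_one
  obtain ⟨h, hh⟩ := exists_invertible hq g
  obtain ⟨A, B, C, D, hv⟩ : ∃ A B C D, mat (h * g * h⁻¹ : Cfsg.Omega F _).1 = fromBlocks A B C D :=
    ⟨_, _, _, _, (fromBlocks_toBlocks _).symm⟩
  rw [hv, toBlocks_fromBlocks₁₁] at hh
  refine Cov.conj h ?_
  by_cases hC : C ≠ 0
  · exact hcov _ A B C D hv hh hC
  push Not at hC
  have hDdet : D.det ≠ 0 := fun h0 => by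
    have := congrArg Matrix.det (mixed_rel hv)
    rw [hC, transpose_zero, Matrix.zero_mul, add_zero, det_mul, h0, mul_zero, det_one] at this
    exact zero_ne_one this
  have hσσ : ∀ g, σ (σ g) = g := fun g => Subtype.ext (mat_inj (by
    rw [hσ, swap_conj hq (fromBlocks_toBlocks (mat (σ g).1)).symm]
    conv_lhs => rw [hσ, swap_conj hq (fromBlocks_toBlocks (mat g.1)).symm]
    simp [fromBlocks_toBlocks]))
  have viaσ : ∀ g : Cfsg.Omega F ⇑(plusQ F (1 + k)),
      Cov (LG hq b) (σ g) → Cov (LG hq b) g := fun g h => by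
    have := h.of_aut σ hclass
    rwa [hσσ] at this
  by_cases hB : B ≠ 0
  · refine viaσ _ (hcov _ D C B A ?_ hDdet hB)
    rw [hσ]; exact swap_conj hq hv
  push Not at hB
  subst hB hC
  obtain ⟨S, hS, hne⟩ : ∃ S : Matrix (Fin (1 + k)) (Fin (1 + k)) F, IsAlt S ∧ S * D ≠ A * S := by
    by_contra hall
    push Not at hall
    have key : ∀ i j : Fin (1 + k), i ≠ j → (∀ l, l ≠ i → l ≠ j → A l i = 0) ∧ A i i = D j j := by
      intro i j hij
      have e2 : alt2 (Pi.single i (1 : F)) (Pi.single j 1) =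
          single i j (1 : F) - single j i 1 := by
        rw [alt2, ← Matrix.single_eq_single_vecMulVec_single, ← Matrix.single_eq_single_vecMulVec_single]
      have h1 := hall (single i j (1 : F) - single j i 1) (e2 ▸ isAlt_alt2 _ _)
      refine ⟨fun l hl hl' => ?_, ?_⟩
      · have := congrFun (congrFun h1 l) j
        simp [Matrix.mul_apply, Matrix.sub_apply, Matrix.single_apply, hl, Ne.symm hl, hl',
          Ne.symm hl', hij, Ne.symm hij, sub_mul, mul_sub] at this
        first | exact this | exact this.symm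
      · have := congrFun (congrFun h1 i) j
        simp [Matrix.mul_apply, Matrix.sub_apply, Matrix.single_apply, hij, Ne.symm hij, sub_mul,
          mul_sub] at this
        first | exact this | exact this.symm
    have third : ∀ i j : Fin (1 + k), ∃ l, l ≠ i ∧ l ≠ j := fun i j => by
      obtain ⟨l, -, hl⟩ := Finset.exists_mem_notMem_of_card_lt_card (s := ({i, j} : Finset _))
        (t := Finset.univ) (lt_of_le_of_lt Finset.card_le_two (by simp; omega))
      simp only [Finset.mem_insert, Finset.mem_singleton, not_or] at hl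
      exact ⟨l, hl⟩
    have hoff : ∀ i j : Fin (1 + k), j ≠ i → A j i = 0 := fun i j hji => by
      obtain ⟨l, hl, hl'⟩ := third i j
      exact (key i l (Ne.symm hl)).1 j hji (Ne.symm hl')
    have hdiag : ∀ i : Fin (1 + k), A i i = A 0 0 := fun i => by
      obtain ⟨l, hl, hl'⟩ := third i 0
      rw [(key i l (Ne.symm hl)).2, (key 0 l (Ne.symm hl')).2]
    have hAs : A = A 0 0 • (1 : Matrix (Fin (1 + k)) (Fin (1 + k)) F) := by
      ext i j
      by_cases hij : i = j
      · subst hij; simpa using hdiag i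
      · simp [hij, hoff j i hij]
    have hAi : ∀ i, D i i = A 0 0 := fun i => by
      obtain ⟨l, hl, -⟩ := third i i
      rw [← (key l i hl).2, hdiag]
    have hAD := mixed_rel hv
    rw [transpose_zero, Matrix.zero_mul, add_zero] at hAD
    have hDs : D = A 0 0 • (1 : Matrix (Fin (1 + k)) (Fin (1 + k)) F) := by
      ext i j
      by_cases hij : i = j
      · subst hij; simpa using hAi i
      · have := congrFun (congrFun hAD i) j
        rw [hAs, transpose_smul, transpose_one, Matrix.smul_mul, Matrix.one_mul, Matrix.smul_apply,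
          smul_eq_mul, Matrix.one_apply_ne hij, mul_eq_zero] at this
        have ha0 := det_eq_zero_of_smul (by omega) hAs hh
        simp [hij, this.resolve_left ha0]
    apply hg
    have hz : h * g * h⁻¹ ∈ Subgroup.center (Cfsg.Omega F ⇑(plusQ F (1 + k))) := by
      refine Subgroup.mem_center_iff.2 fun x => Subtype.ext (mat_inj ?_)
      have hscal : mat (h * g * h⁻¹ : Cfsg.Omega F _).1 = A 0 0 • 1 := by
        rw [hv]
        conv_lhs => rw [hDs, hAs]
        rw [← fromBlocks_one, fromBlocks_smul, smul_zero]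
        simp
      show mat (x.1 * (h * g * h⁻¹ : Cfsg.Omega F _).1) = mat ((h * g * h⁻¹ : Cfsg.Omega F _).1 * x.1)
      rw [mat_mul, mat_mul, hscal]
      simp
    rw [show g = h⁻¹ * (h * g * h⁻¹) * h by group, Subgroup.mem_center_iff.1 hz h⁻¹,
      inv_mul_cancel_right]
    exact hz
  let U : Cfsg.Omega F ⇑(plusQ F (1 + k)) := ⟨upU S hS, upU_mem hq S hS⟩
  refine Cov.conj U (viaσ _ (hcov _ D 0 (-(A * S) + S * D) A ?_ hDdet ?_))
  · rw [hσ, swap_conj hq (A := A) (B := -(A * S) + S * D) (C := 0) (D := D)]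
    have := conj_upU hS hv
    simpa [U] using this
  · rw [neg_add_eq_sub]
    exact sub_ne_zero.2 hne

end Cfsg.Agent.ClassSquareGauss.Plus
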