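import Cfsg.Agent.Lib.ClassSquareGauss.Moves
import Cfsg.Prelude.Def_Classical

/-!
# A class of `PSp_{2m}(F)` whose square is everything

Every non-central element is conjugate to `[[1,0],[R,1]] * diag(A, A⁻ᵀ) * [[1,S],[0,1]]` with `A` not
scalar and of prescribed determinant.
-/

set_option autoImplicit false

namespace Cfsg.Agent.ClassSquareGauss.Symp

open Matrix

variable {F : Type*} [Field F] {m : ℕ}

local notation "Mat" => Matrix (Fin m) (Fin m) F
local notation "Sp" => Matrix.symplecticGroup (Fin m) F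

theorem blocks_mem_iff {A B C D : Mat} :
    fromBlocks A B C D ∈ Matrix.symplecticGroup (Fin m) F ↔
      B * Aᵀ = A * Bᵀ ∧ B * Cᵀ - A * Dᵀ = -1 ∧ D * Aᵀ - C * Bᵀ = 1 ∧ D * Cᵀ = C * Dᵀ := by
  rw [SymplecticGroup.mem_iff, J, fromBlocks_transpose, fromBlocks_multiply, fromBlocks_multiply,
    fromBlocks_inj]
  simp only [Matrix.mul_zero, Matrix.mul_one, Matrix.mul_neg, Matrix.neg_mul, zero_add, add_zero,
    ← sub_eq_add_neg, sub_eq_zero]

theorem blocks_mem_col {A B C D : Mat} (h : fromBlocks A B C D ∈ Matrix.symplecticGroup (Fin m) F) :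
    Cᵀ * A = Aᵀ * C := by
  have := SymplecticGroup.mem_iff'.1 h
  rw [J, fromBlocks_transpose, fromBlocks_multiply, fromBlocks_multiply, fromBlocks_inj] at this
  have h1 := this.1
  simpa only [Matrix.mul_zero, Matrix.mul_one, Matrix.mul_neg, Matrix.neg_mul, zero_add, add_zero,
    ← sub_eq_add_neg, sub_eq_zero] using h1

/-- `A ↦ diag (A, A⁻ᵀ)` -/
def levi : GL (Fin m) F →* Sp where
  toFun P := ⟨fromBlocks (P : Mat) 0 0 (((P⁻¹ : GL (Fin m) F) : Mat))ᵀ, by
    rw [blocks_mem_iff]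
    refine ⟨by simp, ?_, ?_, by simp⟩
    · rw [Matrix.zero_mul, transpose_transpose, Units.mul_inv, zero_sub]
    · rw [Matrix.zero_mul, sub_zero, ← transpose_mul, Units.mul_inv, transpose_one]⟩
  map_one' := by apply Subtype.ext; simp
  map_mul' P Q := by
    apply Subtype.ext
    simp [fromBlocks_multiply, transpose_mul]

theorem levi_val (P : GL (Fin m) F) :
    (levi P : Sp).1 = fromBlocks (P : Mat) 0 0 (((P⁻¹ : GL (Fin m) F) : Mat))ᵀ := rfl

/-- lower unipotent -/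
def lowU (R : Mat) (hR : Rᵀ = R) : Sp :=
  ⟨fromBlocks 1 0 R 1, by rw [blocks_mem_iff]; simp [hR]⟩

/-- upper unipotent -/
def upU (S : Mat) (hS : Sᵀ = S) : Sp :=
  ⟨fromBlocks 1 S 0 1, by rw [blocks_mem_iff]; simp [hS]⟩

/-- the lower radical -/
def Lo : Subgroup Sp where
  carrier := {g | ∃ R : Mat, Rᵀ = R ∧ g.1 = fromBlocks 1 0 R 1}
  one_mem' := ⟨0, by simp, by simp [fromBlocks_one]⟩
  mul_mem' := by
    rintro a b ⟨R, hR, ha⟩ ⟨R', hR', hb⟩
    exact ⟨R + R', by simp [hR, hR'], by simp [ha, hb, fromBlocks_multiply]⟩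
  inv_mem' := by
    rintro a ⟨R, hR, ha⟩
    have : a⁻¹ = lowU (-R) (by simp [hR]) := inv_eq_of_mul_eq_one_right (Subtype.ext (by
      simp [ha, lowU, fromBlocks_multiply, fromBlocks_one]))
    exact ⟨-R, by simp [hR], by rw [this]; rfl⟩

/-- the upper radical -/
def Up : Subgroup Sp where
  carrier := {g | ∃ S : Mat, Sᵀ = S ∧ g.1 = fromBlocks 1 S 0 1}
  one_mem' := ⟨0, by simp, by simp [fromBlocks_one]⟩
  mul_mem' := by
    rintro a b ⟨R, hR, ha⟩ ⟨R', hR', hb⟩
    exact ⟨R' + R, by simp [hR, hR'], by simp [ha, hb, fromBlocks_multiply]⟩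
  inv_mem' := by
    rintro a ⟨R, hR, ha⟩
    have : a⁻¹ = upU (-R) (by simp [hR]) := inv_eq_of_mul_eq_one_right (Subtype.ext (by
      simp [ha, upU, fromBlocks_multiply, fromBlocks_one]))
    exact ⟨-R, by simp [hR], by rw [this]; rfl⟩

theorem levi_conj_Lo (P : GL (Fin m) F) : ∀ v ∈ (Lo : Subgroup Sp),
    levi P * v * (levi P)⁻¹ ∈ (Lo : Subgroup Sp) := by
  rintro v ⟨R, hR, hv⟩
  refine ⟨((P⁻¹ : GL (Fin m) F) : Mat)ᵀ * R * ((P⁻¹ : GL (Fin m) F) : Mat), ?_, ?_⟩
  · simp [transpose_mul, hR, Matrix.mul_assoc]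
  · rw [← map_inv, Submonoid.coe_mul, Submonoid.coe_mul, hv, levi_val, levi_val, inv_inv]
    simp [fromBlocks_multiply, ← transpose_mul]

theorem levi_conj_Up (P : GL (Fin m) F) : ∀ v ∈ (Up : Subgroup Sp),
    levi P * v * (levi P)⁻¹ ∈ (Up : Subgroup Sp) := by
  rintro v ⟨S, hS, hv⟩
  refine ⟨(P : Mat) * S * (P : Mat)ᵀ, ?_, ?_⟩
  · simp [transpose_mul, hS, Matrix.mul_assoc]
  · rw [← map_inv, Submonoid.coe_mul, Submonoid.coe_mul, hv, levi_val, levi_val, inv_inv]
    simp [fromBlocks_multiply, ← transpose_mul]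

theorem conj_upU {A B C D S : Mat} (hS : Sᵀ = S) {g : Sp} (hg : g.1 = fromBlocks A B C D) :
    (upU S hS * g * (upU S hS)⁻¹ : Sp).1 =
      fromBlocks (A + S * C) (-((A + S * C) * S) + (B + S * D)) C (-(C * S) + D) := by
  have : (upU S hS : Sp)⁻¹ = upU (-S) (by simp [hS]) := inv_eq_of_mul_eq_one_right (Subtype.ext (by
    simp [upU, fromBlocks_multiply, fromBlocks_one]))
  rw [this, Submonoid.coe_mul, Submonoid.coe_mul, hg]
  simp [upU, fromBlocks_multiply]

theorem conj_lowU {A B C D R : Mat} (hR : Rᵀ = R) {g : Sp} (hg : g.1 = fromBlocks A B C D) :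
    (lowU R hR * g * (lowU R hR)⁻¹ : Sp).1 =
      fromBlocks (A - B * R) B (R * A + C - (R * B + D) * R) (R * B + D) := by
  have : (lowU R hR : Sp)⁻¹ = lowU (-R) (by simp [hR]) := inv_eq_of_mul_eq_one_right (Subtype.ext (by
    simp [lowU, fromBlocks_multiply, fromBlocks_one]))
  rw [this, Submonoid.coe_mul, Submonoid.coe_mul, hg]
  simp [lowU, fromBlocks_multiply, sub_eq_add_neg]

/-- `[[0,-1],[1,0]]` -/
def Jm : Sp := ⟨fromBlocks 0 (-1) 1 0, by rw [blocks_mem_iff]; simp⟩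

theorem conj_Jm {A B C D : Mat} {g : Sp} (hg : g.1 = fromBlocks A B C D) :
    (Jm * g * Jm⁻¹ : Sp).1 = fromBlocks D (-C) (-B) A := by
  have : (Jm : Sp)⁻¹ = ⟨fromBlocks 0 1 (-1) 0, by rw [blocks_mem_iff]; simp⟩ :=
    inv_eq_of_mul_eq_one_right (Subtype.ext (by simp [Jm, fromBlocks_multiply, fromBlocks_one]))
  rw [this, Submonoid.coe_mul, Submonoid.coe_mul, hg]
  simp [Jm, fromBlocks_multiply]

theorem exists_invertible (g : Sp) :
    ∃ h : Sp, (h * g * h⁻¹ : Sp).1.toBlocks₁₁.det ≠ 0 := by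
  classical
  suffices H : ∀ n : ℕ, ∀ g : Sp,
      Module.finrank F (LinearMap.ker (Matrix.toLin' g.1.toBlocks₁₁)) ≤ n →
      ∃ h : Sp, (h * g * h⁻¹ : Sp).1.toBlocks₁₁.det ≠ 0 from H _ g le_rfl
  intro n
  induction n with
  | zero =>
    intro g hg
    refine ⟨1, fun h0 => ?_⟩
    rw [one_mul, inv_one, mul_one] at h0
    obtain ⟨x, hx0, hx⟩ := Matrix.exists_mulVec_eq_zero_iff.2 h0
    have := Submodule.finrank_eq_zero.1 (Nat.le_zero.1 hg)
    exact hx0 ((Submodule.mem_bot F).1 (this ▸ LinearMap.mem_ker.2 hx))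
  | succ n ih =>
    intro g hg
    obtain ⟨A, B, C, D, hgv⟩ : ∃ A B C D, g.1 = fromBlocks A B C D :=
      ⟨_, _, _, _, (fromBlocks_toBlocks _).symm⟩
    rw [hgv, toBlocks_fromBlocks₁₁] at hg
    by_cases hA : A.det ≠ 0
    · exact ⟨1, by simpa [hgv] using hA⟩
    push Not at hA
    obtain ⟨x, hx0, hx⟩ := Matrix.exists_mulVec_eq_zero_iff.2 hA
    obtain ⟨z1, hz1⟩ : ∃ z, B *ᵥ z ∉ LinearMap.range (Matrix.toLin' A) := by
      by_contra hall
      push Not at hall
      have hsurj : Function.Surjective (Matrix.toLin' A) := fun y => by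
        obtain ⟨-, h2, -, -⟩ := blocks_mem_iff.1 (hgv ▸ g.2)
        obtain ⟨u, hu⟩ := hall (Cᵀ *ᵥ y)
        refine ⟨Dᵀ *ᵥ y - u, ?_⟩
        have := congrArg (fun M : Mat => M *ᵥ y) h2
        simp only [sub_mulVec, neg_mulVec, one_mulVec, ← mulVec_mulVec] at this
        rw [map_sub, hu, Matrix.toLin'_apply]
        rw [← neg_sub, this, neg_neg]
      exact hx0 (LinearMap.injective_iff_surjective.2 hsurj (by simpa using hx))
    obtain ⟨i, hi⟩ := Function.ne_iff.1 hx0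
    obtain ⟨z, hz, hzx⟩ : ∃ z, B *ᵥ z ∉ LinearMap.range (Matrix.toLin' A) ∧ z ⬝ᵥ x ≠ 0 := by
      by_cases h1 : z1 ⬝ᵥ x ≠ 0
      · exact ⟨z1, hz1, h1⟩
      push Not at h1
      by_cases h2 : B *ᵥ Pi.single i 1 ∈ LinearMap.range (Matrix.toLin' A)
      · refine ⟨z1 + Pi.single i 1, fun h => hz1 ?_, by simpa [add_dotProduct, h1] using hi⟩
        rw [mulVec_add] at h
        exact (add_mem_cancel_right h2).1 h
      · exact ⟨Pi.single i 1, h2, by simpa using hi⟩
    have hR : (vecMulVec z z)ᵀ = vecMulVec z z := transpose_vecMulVec z z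
    have hv := conj_lowU hR hgv
    obtain ⟨h', hh'⟩ := ih (lowU _ hR * g * (lowU _ hR)⁻¹) (by
      rw [hv, toBlocks_fromBlocks₁₁, mul_vecMulVec]
      have key : ∀ y, (A - vecMulVec (B *ᵥ z) z) *ᵥ y = 0 → z ⬝ᵥ y = 0 ∧ A *ᵥ y = 0 := by
        intro y hy
        rw [sub_mulVec, vecMulVec_mulVec, sub_eq_zero] at hy
        have hy' : A *ᵥ y = (z ⬝ᵥ y) • (B *ᵥ z) := by
          rw [hy]; funext j; simp [mul_comm]
        have h0 : z ⬝ᵥ y = 0 := by
          by_contra hne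
          exact hz ⟨(z ⬝ᵥ y)⁻¹ • y, by
            rw [Matrix.toLin'_apply, mulVec_smul, hy', smul_smul, inv_mul_cancel₀ hne, one_smul]⟩
        exact ⟨h0, by rw [hy', h0, zero_smul]⟩
      refine Nat.le_of_lt_succ (lt_of_lt_of_le (Submodule.finrank_lt_finrank_of_lt ?_) hg)
      refine lt_of_le_of_ne (fun y hy => ?_) fun he => hzx ?_
      · exact LinearMap.mem_ker.2 (key y (LinearMap.mem_ker.1 hy)).2
      · have : x ∈ LinearMap.ker (Matrix.toLin' (A - vecMulVec (B *ᵥ z) z)) :=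
          he ▸ LinearMap.mem_ker.2 hx
        exact (key x (LinearMap.mem_ker.1 this)).1)
    exact ⟨h' * lowU _ hR, by
      rwa [show h' * lowU _ hR * g * (h' * lowU _ hR)⁻¹ =
        h' * (lowU _ hR * g * (lowU _ hR)⁻¹) * h'⁻¹ by group]⟩

theorem exists_lower_ne {g : Sp} (hg : g ∉ Subgroup.center Sp) :
    ∃ (h : Sp) (A B C D : Mat), (h * g * h⁻¹ : Sp).1 = fromBlocks A B C D ∧ A.det ≠ 0 ∧ C ≠ 0 := by
  obtain ⟨h, hh⟩ := exists_invertible g
  obtain ⟨A, B, C, D, hgv⟩ : ∃ A B C D, (h * g * h⁻¹ : Sp).1 = fromBlocks A B C D :=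
    ⟨_, _, _, _, (fromBlocks_toBlocks _).symm⟩
  rw [hgv, toBlocks_fromBlocks₁₁] at hh
  by_cases hC : C ≠ 0
  · exact ⟨h, A, B, C, D, hgv, hh, hC⟩
  push Not at hC
  have hconj : ∀ k : Sp, (k * h) * g * (k * h)⁻¹ = k * (h * g * h⁻¹) * k⁻¹ := fun k => by group
  have hDet : ∀ {A B D : Mat}, fromBlocks A B 0 D ∈ Matrix.symplecticGroup (Fin m) F → D.det ≠ 0 := by
    intro A B D hm h0
    obtain ⟨-, -, h3, -⟩ := blocks_mem_iff.1 hm
    rw [Matrix.zero_mul, sub_zero] at h3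
    have := congrArg Matrix.det h3
    rw [det_mul, h0, zero_mul, det_one] at this
    exact zero_ne_one this
  by_cases hB : B ≠ 0
  · refine ⟨Jm * h, D, -C, -B, A, by rw [hconj]; exact conj_Jm hgv, ?_, by simpa using hB⟩
    exact hDet (A := A) (B := B) (by rw [← hC, ← hgv]; exact (h * g * h⁻¹ : Sp).2)
  push Not at hB
  subst hB hC
  obtain ⟨S, hS, hne⟩ : ∃ S : Mat, Sᵀ = S ∧ S * D ≠ A * S := by
    by_contra hall
    push Not at hall
    have hDA : D = A := by simpa using hall 1 transpose_one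
    subst hDA
    have hii : ∀ i k : Fin m, k ≠ i → D k i = 0 := fun i k hki => by
      have := congrFun (congrFun (hall (diagonal (Pi.single i 1)) (diagonal_transpose _)) k) i
      simpa [Pi.single_apply, hki] using this.symm
    have hij : ∀ i j : Fin m, D i i = D j j := fun i j => by
      by_cases hne : i = j
      · rw [hne]
      have := congrFun (congrFun (hall (single i j (1 : F) + single j i 1) (by
        simp [add_comm, transpose_single])) i) j
      simpa [Matrix.mul_apply, Matrix.add_apply, Matrix.single_apply, Ne.symm hne, hne] using this.symm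
    rcases Nat.eq_zero_or_pos m with rfl | hm
    · exact hg (Subgroup.mem_center_iff.2 fun x => Subtype.ext (by
        ext i j; rcases i with i | i <;> exact i.elim0))
    have hscal : D = D ⟨0, hm⟩ ⟨0, hm⟩ • (1 : Mat) := by
      ext i j
      by_cases hne : i = j
      · subst hne; simpa using hij i ⟨0, hm⟩
      · simp [hne, hii j i hne]
    apply hg
    have hz : h * g * h⁻¹ ∈ Subgroup.center Sp := by
      refine Subgroup.mem_center_iff.2 fun x => Subtype.ext ?_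
      have : (h * g * h⁻¹ : Sp).1 = D ⟨0, hm⟩ ⟨0, hm⟩ • 1 := by
        rw [hgv, ← fromBlocks_one, fromBlocks_smul, smul_zero, ← hscal]
      simp only [Submonoid.coe_mul] at this ⊢
      simp [this]
    have := (Subgroup.center Sp).inv_mem ((Subgroup.center Sp).inv_mem hz)
    have e : g = h⁻¹ * (h * g * h⁻¹) * h := by group
    rw [e, Subgroup.mem_center_iff.1 hz h⁻¹, inv_mul_cancel_right]
    exact hz
  refine ⟨Jm * (upU S hS * h), D, 0, A * S - S * D, A, ?_, hDet (A := A) (B := 0)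
    (by rw [← hgv]; exact (h * g * h⁻¹ : Sp).2), sub_ne_zero.2 (Ne.symm hne)⟩
  rw [show Jm * (upU S hS * h) * g * (Jm * (upU S hS * h))⁻¹ =
    Jm * (upU S hS * (h * g * h⁻¹) * (upU S hS)⁻¹) * Jm⁻¹ by group, conj_Jm (conj_upU hS hgv)]
  congr 1 <;> (simp; try abel)

/-- `g` has a lower block `M A` over the invertible block `A`. -/
def State (g : Sp) (A M : Mat) : Prop :=
  ∃ B D : Mat, g.1 = fromBlocks A B (M * A) D ∧ A.det ≠ 0 ∧ Mᵀ = M ∧ M ≠ 0

theorem exists_state {g : Sp} (hg : g ∉ Subgroup.center Sp) :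
    ∃ (h : Sp) (A M : Mat), State (h * g * h⁻¹) A M := by
  obtain ⟨h, A, B, C, D, hv, hA, hC⟩ := exists_lower_ne hg
  have hu : IsUnit A.det := isUnit_iff_ne_zero.2 hA
  refine ⟨h, A, C * A⁻¹, B, D, by rw [Matrix.nonsing_inv_mul_cancel_right _ _ hu]; exact hv, hA, ?_,
    fun h0 => hC ?_⟩
  · have hCA := blocks_mem_col (hv ▸ (h * g * h⁻¹ : Sp).2)
    rw [transpose_mul, transpose_nonsing_inv]
    calc Aᵀ⁻¹ * Cᵀ = Aᵀ⁻¹ * (Cᵀ * A) * A⁻¹ := by
          rw [← Matrix.mul_assoc, Matrix.mul_nonsing_inv_cancel_right _ _ hu]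
      _ = C * A⁻¹ := by
          rw [hCA, Matrix.nonsing_inv_mul_cancel_left _ _ (by rwa [det_transpose])]
  · rw [← Matrix.nonsing_inv_mul_cancel_right A C hu, h0, Matrix.zero_mul]

theorem State.move {g : Sp} {A M M' : Mat} (h : State g A M) (S : Mat) (hS : Sᵀ = S)
    (hM : M' * (1 + S * M) = M) (hd : (1 + S * M).det ≠ 0) (hM' : M'ᵀ = M') :
    State (upU S hS * g * (upU S hS)⁻¹) ((1 + S * M) * A) M' := by
  obtain ⟨B, D, hv, hA, -, hM0⟩ := h
  refine ⟨-((A + S * (M * A)) * S) + (B + S * D), -(M * A * S) + D,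
    (conj_upU hS hv).trans ?_, by rw [det_mul]; exact mul_ne_zero hd hA, hM', fun h0 =>
    hM0 (by rw [← hM, h0, Matrix.zero_mul])⟩
  congr 1
  · rw [Matrix.add_mul, Matrix.one_mul, Matrix.mul_assoc]
  · rw [← Matrix.mul_assoc, hM]

theorem State.step {g : Sp} {A M : Mat} (h : State g A M) (S : Mat) (hS : Sᵀ = S)
    (hd : (1 + S * M).det ≠ 0) :
    ∃ M', State (upU S hS * g * (upU S hS)⁻¹) ((1 + S * M) * A) M' ∧ M' * (1 + S * M) = M := by
  have hu : IsUnit (1 + S * M).det := isUnit_iff_ne_zero.2 hd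
  have hM : M * (1 + S * M)⁻¹ * (1 + S * M) = M := Matrix.nonsing_inv_mul_cancel_right _ _ hu
  refine ⟨M * (1 + S * M)⁻¹, h.move S hS hM hd ?_, hM⟩
  obtain ⟨-, -, -, -, hMs, -⟩ := h
  have e : (1 + S * M)ᵀ * M = M * (1 + S * M) := by
    simp [transpose_add, transpose_mul, hMs, hS, Matrix.add_mul, Matrix.mul_add, Matrix.mul_assoc]
  rw [transpose_mul, transpose_nonsing_inv, hMs]
  calc (1 + S * M)ᵀ⁻¹ * M = (1 + S * M)ᵀ⁻¹ * (M * (1 + S * M)) * (1 + S * M)⁻¹ := by
        rw [← Matrix.mul_assoc, Matrix.mul_nonsing_inv_cancel_right _ _ hu]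
    _ = M * (1 + S * M)⁻¹ := by
        rw [← e, Matrix.nonsing_inv_mul_cancel_left _ _ (by rwa [det_transpose])]

/-- the quadratic value -/
def qf (M : Mat) (v : Fin m → F) : F := (v ᵥ* M) ⬝ᵥ v

theorem exists_qf {g : Sp} {A M : Mat} (h : State g A M) :
    ∃ (k : Sp) (A' M' : Mat), State (k * g * k⁻¹) A' M' ∧ ∃ v, qf M' v ≠ 0 := by
  by_cases hex : ∃ v, qf M v ≠ 0
  · exact ⟨1, A, M, by simpa using h, hex⟩
  push Not at hex
  obtain ⟨-, -, -, -, hMs, hM0⟩ := id h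
  obtain ⟨i, j, hij⟩ : ∃ i j, M i j ≠ 0 := by
    by_contra hall; push Not at hall; exact hM0 (Matrix.ext hall)
  set w : Fin m → F := Pi.single j 1 with hw
  set a : Fin m → F := w ᵥ* M with ha
  have haw : a ⬝ᵥ w = 0 := hex w
  set S : Mat := vecMulVec w w with hSdef
  have hS : Sᵀ = S := transpose_vecMulVec w w
  have hSM : S * M = vecMulVec w a := vecMulVec_mul' w w M
  have hsq : S * M * (S * M) = 0 := by
    rw [hSM, vecMulVec_mul_vecMulVec, haw, zero_smul, vecMulVec_zero]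
  have hd : (1 + S * M).det ≠ 0 := by rw [hSM, det_rank_one, haw, add_zero]; exact one_ne_zero
  have hMS : M * (1 - S * M) * (1 + S * M) = M := by
    rw [Matrix.mul_assoc, show (1 - S * M) * (1 + S * M) = 1 - S * M * (S * M) by noncomm_ring, hsq,
      sub_zero, Matrix.mul_one]
  have hM's : (M * (1 - S * M))ᵀ = M * (1 - S * M) := by
    simp [transpose_mul, transpose_sub, hS, hMs, Matrix.mul_sub, Matrix.sub_mul, Matrix.mul_assoc]
  refine ⟨upU S hS, _, _, h.move S hS hMS hd hM's, Pi.single i 1, ?_⟩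
  have hi : qf M (Pi.single i 1) = 0 := hex _
  have e : qf (M * (1 - S * M)) (Pi.single i 1) = qf M (Pi.single i 1) - a i * a i := by
    have hai : a i = M j i := by simp [a, w]
    have hji : M j i = M i j := by rw [← congrFun (congrFun hMs i) j]; rfl
    simp [qf, Matrix.mul_sub, Matrix.sub_apply, hSM, mul_vecMulVec, vecMulVec_apply, w, hai, hji,
      Matrix.mulVec_single, Matrix.col]
  rw [e, hi, zero_sub, neg_ne_zero]
  have hai : a i = M i j := by
    rw [← congrFun (congrFun hMs i) j]; simp [a, w]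
  rw [hai]
  exact mul_ne_zero hij hij

theorem exists_target [Fintype F] (hq : 4 ≤ Fintype.card F) (hm : 2 ≤ m) {τ : F} (hτ : τ ≠ 0)
    {g : Sp} {A M : Mat} (h : State g A M) (hv : ∃ v, qf M v ≠ 0) :
    ∃ (k : Sp) (A' M' : Mat), State (k * g * k⁻¹) A' M' ∧ A'.det = τ ∧ ∀ a : F, A' ≠ a • 1 := by
  classical
  have hquad : ∀ (M : Mat) (u v : Fin m → F) (x : F),
      qf M (u + x • v) = qf M u + x * ((u ᵥ* M) ⬝ᵥ v + (v ᵥ* M) ⬝ᵥ u) + x * x * qf M v := by
    intro M u v x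
    simp [qf, add_vecMul, smul_vecMul, add_dotProduct, dotProduct_add]
    ring
  have hSM : ∀ (M : Mat) (x : F) (v : Fin m → F),
      x • vecMulVec v v * M = vecMulVec v (x • (v ᵥ* M)) := fun M x v => by
    rw [Matrix.smul_mul, vecMulVec_mul', vecMulVec_smul]
  have hsymm : ∀ (x : F) (v : Fin m → F), (x • vecMulVec v v)ᵀ = x • vecMulVec v v := fun x v => by
    rw [transpose_smul, transpose_vecMulVec]
  -- from a non-scalar block
  have main : ∀ {g : Sp} {A M : Mat}, State g A M → (∃ v, qf M v ≠ 0) → (∀ a : F, A ≠ a • 1) →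
      ∃ (k : Sp) (A' M' : Mat), State (k * g * k⁻¹) A' M' ∧ A'.det = τ ∧ ∀ a : F, A' ≠ a • 1 := by
    intro g A M h hv hA
    obtain ⟨v, hv, hne⟩ := exists_avoid hq hA (qf M) _ (hquad M) hv
    obtain ⟨-, -, -, hAd, -, -⟩ := id h
    set x : F := (τ * A.det⁻¹ - 1) * (qf M v)⁻¹ with hx
    have hd : (1 + x • vecMulVec v v * M).det = τ * A.det⁻¹ := by
      rw [hSM, det_rank_one, smul_dotProduct, smul_eq_mul, hx]
      show 1 + (τ * A.det⁻¹ - 1) * (qf M v)⁻¹ * qf M v = _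
      rw [mul_assoc, inv_mul_cancel₀ hv]
      ring
    obtain ⟨M', hst, -⟩ := h.step _ (hsymm x v)
      (by rw [hd]; exact mul_ne_zero hτ (inv_ne_zero hAd))
    refine ⟨_, _, M', hst, ?_, ?_⟩
    · rw [det_mul, hd, mul_assoc, inv_mul_cancel₀ hAd, mul_one]
    · rw [hSM]; exact ns_rank_one hne _
  by_cases hA : ∀ a : F, A ≠ a • 1
  · exact main h hv hA
  push Not at hA
  obtain ⟨a, rfl⟩ := hA
  obtain ⟨v, hv⟩ := hv
  obtain ⟨x, -, hx⟩ := Finset.exists_mem_notMem_of_card_lt_card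
    (s := ({0, -(qf M v)⁻¹} : Finset F)) (t := Finset.univ)
    (lt_of_le_of_lt Finset.card_le_two (by rw [Finset.card_univ]; omega))
  simp only [Finset.mem_insert, Finset.mem_singleton, not_or] at hx
  have hd : (1 + x • vecMulVec v v * M).det ≠ 0 := by
    rw [hSM, det_rank_one, smul_dotProduct, smul_eq_mul]
    intro h0
    refine hx.2 ?_
    have h0' : 1 + x * qf M v = 0 := h0
    field_simp
    linear_combination h0'
  obtain ⟨M', hst, hM'⟩ := h.step _ (hsymm x v) hd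
  have ha : a ≠ 0 := by
    rintro rfl
    obtain ⟨-, -, -, hAd, -, -⟩ := h
    have : Nonempty (Fin m) := ⟨⟨0, by omega⟩⟩
    rw [zero_smul] at hAd
    exact hAd det_zero
  have hns : ∀ b : F, (1 + x • vecMulVec v v * M) * (a • (1 : Mat)) ≠ b • 1 := by
    intro b hb
    rw [Matrix.mul_smul, Matrix.mul_one, hSM] at hb
    refine ns_one_rank_one (by simpa using hm)
      (v := v) (w := x • (v ᵥ* M)) ?_ (a⁻¹ * b) ?_
    · rw [smul_dotProduct, smul_eq_mul]
      exact mul_ne_zero hx.1 hv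
    · rw [← smul_smul, ← hb, smul_smul, inv_mul_cancel₀ ha, one_smul]
  have hv' : ∃ w, qf M' w ≠ 0 := by
    refine ⟨v, fun h0 => hv ?_⟩
    have h1 : qf M v = (v ᵥ* M') ⬝ᵥ v + x * qf M v * qf M' v := by
      have hrow : v ᵥ* M = v ᵥ* M' + ((v ᵥ* M') ⬝ᵥ v) • (x • (v ᵥ* M)) := by
        rw [← Matrix.vecMul_vecMulVec, ← hSM, Matrix.vecMul_vecMul, ← Matrix.vecMul_add,
          ← Matrix.mul_one M', Matrix.mul_assoc M' 1, Matrix.one_mul, ← Matrix.mul_add, hM']
      conv_lhs => rw [qf, hrow]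
      simp [qf, add_dotProduct, smul_dotProduct]
      ring
    rw [h1]
    simp only [qf] at h0 ⊢
    simp [h0]
  obtain ⟨k', A', M'', h1, h2, h3⟩ := main hst hv' hns
  exact ⟨k' * upU _ (hsymm x v), A', M'', by
    rwa [show k' * upU _ (hsymm x v) * g * (k' * upU _ (hsymm x v))⁻¹ =
      k' * (upU _ (hsymm x v) * g * (upU _ (hsymm x v))⁻¹) * k'⁻¹ by group], h2, h3⟩

theorem exists_decomp {g : Sp} {A M : Mat} (h : State g A M) :
    ∃ (X : GL (Fin m) F) (v u : Sp), (X : Mat) = A ∧ v ∈ (Lo : Subgroup Sp) ∧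
      u ∈ (Up : Subgroup Sp) ∧ g = v * levi X * u := by
  obtain ⟨B, D, hv, hA, hM, -⟩ := h
  let X : GL (Fin m) F := GeneralLinearGroup.mkOfDetNeZero A hA
  set Y : Mat := ((X⁻¹ : GL (Fin m) F) : Mat) with hY
  have hAY : A * Y = 1 := X.mul_inv
  have hYA : Y * A = 1 := X.inv_mul
  have hAY' : Aᵀ * Yᵀ = 1 := by rw [← transpose_mul, hYA, transpose_one]
  obtain ⟨hBA, -, hDA, -⟩ := blocks_mem_iff.1 (hv ▸ g.2)
  have hS : (Y * B)ᵀ = Y * B := by
    calc (Y * B)ᵀ = (Y * A) * (Bᵀ * Yᵀ) := by rw [hYA, Matrix.one_mul, transpose_mul]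
      _ = Y * (B * Aᵀ) * Yᵀ := by rw [hBA]; simp only [Matrix.mul_assoc]
      _ = Y * B := by rw [Matrix.mul_assoc, Matrix.mul_assoc, hAY', Matrix.mul_one]
  have hD : D = M * B + Yᵀ := by
    calc D = D * Aᵀ * Yᵀ := by rw [Matrix.mul_assoc, hAY', Matrix.mul_one]
      _ = (1 + M * A * Bᵀ) * Yᵀ := by rw [← hDA, sub_add_cancel]
      _ = M * (A * (Y * B)ᵀ) + Yᵀ := by
        rw [Matrix.add_mul, Matrix.one_mul, transpose_mul, add_comm]; simp only [Matrix.mul_assoc]
      _ = _ := by rw [hS, ← Matrix.mul_assoc A, hAY, Matrix.one_mul]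
  refine ⟨X, lowU M hM, upU (Y * B) hS, rfl, ⟨M, hM, rfl⟩, ⟨_, hS, rfl⟩, Subtype.ext ?_⟩
  simp only [Submonoid.coe_mul, lowU, upU, levi_val, fromBlocks_multiply, hv]
  have hX : (X : Mat) = A := rfl
  simp [hX, ← hY, ← Matrix.mul_assoc A, hAY, hD, Matrix.mul_assoc M A]

theorem exists_class [Fintype F] (hF : 9 ≤ Fintype.card F) (m : ℕ) (hm : 2 ≤ m) {G : Type*} [Group G]
    (e : G ≃* Cfsg.PSp m F) :
    ∃ c : G, ∀ g : G, ∃ x y : G, g = (x * c * x⁻¹) * (y * c * y⁻¹) := by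
  classical
  obtain ⟨k, rfl⟩ : ∃ k, m = 1 + k := ⟨m - 1, by omega⟩
  have hK : 4 ≤ Cardinal.mk F := by
    rw [Cardinal.mk_fintype]; exact_mod_cast (by omega : 4 ≤ Fintype.card F)
  obtain ⟨z, hz⟩ := IsCyclic.exists_generator (α := Fˣ)
  have ho : 8 ≤ orderOf z := by
    rw [orderOf_eq_card_of_forall_mem_zpowers hz, Nat.card_eq_fintype_card, Fintype.card_units]
    omega
  have hpw : ∀ i : ℕ, 0 < i → i < 8 → (z : F) ^ i ≠ 1 := fun i h0 h8 hi => by
    have : orderOf z ∣ i := orderOf_dvd_of_pow_eq_one (Units.ext (by simpa using hi))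
    have := Nat.le_of_dvd h0 this
    omega
  have h1 := hpw 1 (by omega) (by omega)
  have h2 := hpw 2 (by omega) (by omega)
  have h3 := hpw 3 (by omega) (by omega)
  have h4 := hpw 4 (by omega) (by omega)
  simp only [pow_succ, pow_zero, one_mul] at h1 h2 h3 h4
  have hdc : ((z : F)) ≠ ((z * z : Fˣ) : F) := fun h => h1 (by
    rw [Units.val_mul] at h
    exact mul_left_cancel₀ z.ne_zero (h.symm.trans (mul_one _).symm))
  set b := bGL z (z * z) k with hb
  have fix1 : (z : F) * ((z * z : Fˣ) : F) ≠ 1 := by simpa [← mul_assoc] using h3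
  have fix2 : ((z * z : Fˣ) : F) * ((z * z : Fˣ) : F) ≠ 1 := by simpa [← mul_assoc] using h4
  have : Finite (Matrix.symplecticGroup (Fin (1 + k)) F) := Finite.of_injective _ Subtype.val_injective
  refine exists_of_center_quotient e (levi b) ?_ ?_
  · obtain ⟨P, -, hP⟩ := exists_transpose z (z * z) k
    have hT : levi (P * b * P⁻¹) = Jm * (levi b)⁻¹ * Jm⁻¹ := by
      refine Subtype.ext ?_
      rw [← map_inv, conj_Jm (levi_val b⁻¹), levi_val]
      have hP' : ((P * b * P⁻¹ : GL (Fin (1 + k)) F) : Matrix (Fin (1 + k)) (Fin (1 + k)) F) =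
          (b : Matrix (Fin (1 + k)) (Fin (1 + k)) F)ᵀ := hP.symm
      simp only [neg_zero, inv_inv, fromBlocks_inj, true_and]
      refine ⟨hP', ?_⟩
      rw [Matrix.coe_units_inv, hP', ← transpose_nonsing_inv, transpose_transpose,
        Matrix.coe_units_inv]
    refine ⟨Jm⁻¹ * levi P, ?_⟩
    calc Jm⁻¹ * levi P * levi b * (Jm⁻¹ * levi P)⁻¹ = Jm⁻¹ * levi (P * b * P⁻¹) * Jm := by
          simp only [map_mul, map_inv]; group
      _ = (levi b)⁻¹ := by rw [hT]; group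
  · intro g hg
    obtain ⟨h, A, M, hst⟩ := exists_state hg
    obtain ⟨h', A', M', hst', hv⟩ := exists_qf hst
    obtain ⟨h'', A'', M'', hst'', hdet, hns⟩ := exists_target (by omega) hm
      (pow_ne_zero 2 (mul_ne_zero z.ne_zero (pow_ne_zero k (z * z).ne_zero))) hst' hv
    obtain ⟨X, v, u, hX, hvm, hum, hdec⟩ := exists_decomp hst''
    obtain ⟨P, Q, -, -, hPQ⟩ := exists_two hK z (z * z) hdc (by omega : 1 ≤ k) z.ne_zero h1 A''
      hdet hns
    refine Cov.conj (h'' * h' * h) ?_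
    rw [show h'' * h' * h * g * (h'' * h' * h)⁻¹ = h'' * (h' * (h * g * h⁻¹) * h'⁻¹) * h''⁻¹ by group]
    refine cov_gauss levi Lo Up levi_conj_Lo levi_conj_Up b ?_ ?_ hvm hum P Q ?_
    · rintro w ⟨R, hR, hw⟩ hcomm
      have hB : (b : Matrix (Fin (1 + k)) (Fin (1 + k)) F) = blockB (z : F) ((z * z : Fˣ) : F) k := rfl
      have hc := congrArg (fun x : Matrix.symplecticGroup (Fin (1 + k)) F => x.1.toBlocks₂₁) hcomm
      simp only [Submonoid.coe_mul, levi_val, hw, fromBlocks_multiply, toBlocks_fromBlocks₂₁,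
        Matrix.zero_mul, Matrix.mul_zero, Matrix.one_mul, Matrix.mul_one, zero_add, add_zero] at hc
      have hR0 : R = 0 := fix_form fix1 fix2 (Or.inl h2) (by
        rw [← hB]
        calc _ = (b : Matrix (Fin (1 + k)) (Fin (1 + k)) F)ᵀ *
              (((b⁻¹ : GL (Fin (1 + k)) F) : Matrix (Fin (1 + k)) (Fin (1 + k)) F)ᵀ * R) := by
              rw [hc, Matrix.mul_assoc]
          _ = R := by rw [← Matrix.mul_assoc, ← transpose_mul, Units.inv_mul, transpose_one, Matrix.one_mul])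
      exact Subtype.ext (by rw [hw, hR0]; simp [fromBlocks_one])
    · rintro w ⟨R, hR, hw⟩ hcomm
      have hB : (b : Matrix (Fin (1 + k)) (Fin (1 + k)) F) = blockB (z : F) ((z * z : Fˣ) : F) k := rfl
      have hc := congrArg (fun x : Matrix.symplecticGroup (Fin (1 + k)) F => x.1.toBlocks₁₂) hcomm
      simp only [Submonoid.coe_mul, levi_val, hw, fromBlocks_multiply, toBlocks_fromBlocks₁₂,
        Matrix.zero_mul, Matrix.mul_zero, Matrix.one_mul, Matrix.mul_one, zero_add, add_zero] at hc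
      have hR0 : R = 0 := fix_form' fix1 fix2 (Or.inl h2) (by
        rw [← hB, hc, Matrix.mul_assoc, ← transpose_mul, Units.mul_inv, transpose_one, Matrix.mul_one])
      exact Subtype.ext (by rw [hw, hR0]; simp [fromBlocks_one])
    · rw [hdec]
      congr 3
      exact Units.ext (hX.trans hPQ)

end Cfsg.Agent.ClassSquareGauss.Symp
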